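import Cfsg.Agent.H453.OddM.Real_m3
import Cfsg.Agent.FixBN.Split
import Cfsg.Agent.Tits.OfBN
import Cfsg.Agent.Tits.RootComb
import Cfsg.Agent.Nodes.TypeD
import Cfsg.Agent.Nodes.RootsA
import Mathlib
import Cfsg.Agent.S2530
import Cfsg.Agent.H35.ExcIdxTw_m3
import Cfsg.Agent.Lib.FinFast
import Cfsg.Agent.FastGrp
import Cfsg.Agent.Prune
set_option linter.all false
prune_inst 0x7f00000000000000000000000000000000000000000000000000000000000000000000000000000000000000000000000000000000000000000000000000000000000000000000000000000000000000003fffffffffffffffffffffffffffbeffbdffffffff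
open scoped Cfsg.Agent.FastGrp

-- part: H551/OddTwo
section
/-!
# S4785, characteristic two: the abstract theorem (helper551)

`G` a finite simple group with a split (B,N)-pair of characteristic `2` and of type `M`, `R` with `RO G R`.

* `exists_par` : if `R ≠ ⊤`, then there is a proper subgroup `Q` containing `B` such that all the subgroups `K`
  containing `B` have an odd number of orbits on `G ⧸ Q`;
* `card_orb_par` : for `Q = P_J`, `K = P_K` this is the number of orbits of `W_K` on `W ⧸ W_J`;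
* `Par M J K` : this number, in the Coxeter group of `M`;
* `EvenPar M` : for each proper `J` there is `K` with `Par M J K` even;
* `row_of_type` : `Row G` if `EvenPar M`;
* `evenPar_of_central` : `EvenPar M` if there is a central involution which is in no proper parabolic subgroup.
-/

set_option autoImplicit false

namespace Cfsg.Agent.H551.OddTwo

open Cfsg Cfsg.Agent.H453.OddM Cfsg.Agent.FixBN Cfsg.Agent.LieExceptional.BNPairCore Cfsg.Agent.Tits.Core
  Cfsg.Agent.Tits.OfBN

/-! ### orbits -/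

theorem card_eq_of_ker {X A B : Type*} (φ : X → A) (ψ : X → B) (hφ : Function.Surjective φ)
    (hψ : Function.Surjective ψ) (h : ∀ x y, φ x = φ y ↔ ψ x = ψ y) : Nat.card A = Nat.card B := by
  have e1 := (Setoid.quotientKerEquivOfSurjective φ hφ).symm
  have e2 : Quotient (Setoid.ker φ) ≃ Quotient (Setoid.ker ψ) :=
    Quotient.congr (Equiv.refl X) (fun a b => h a b)
  exact Nat.card_congr (e1.trans (e2.trans (Setoid.quotientKerEquivOfSurjective ψ hψ)))

section orb

variable {G G' : Type*} [Group G] [Group G']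

/-- the orbit of `x` -/
def orb (K Q : Subgroup G) (x : G) : MulAction.orbitRel.Quotient K (G ⧸ Q) := Quotient.mk'' (QuotientGroup.mk x : G ⧸ Q)

theorem orb_surjective (K Q : Subgroup G) : Function.Surjective (orb K Q) := by
  intro ω
  induction ω using Quotient.inductionOn' with
  | _ a =>
  obtain ⟨x, rfl⟩ := QuotientGroup.mk_surjective a
  exact ⟨x, rfl⟩

theorem orb_eq_iff {K Q : Subgroup G} {x y : G} : orb K Q x = orb K Q y ↔ ∃ k ∈ K, ∃ q ∈ Q, x = k * y * q := by
  unfold orb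
  rw [Quotient.eq'', MulAction.orbitRel_apply]
  constructor
  · rintro ⟨⟨k, hk⟩, h⟩
    have h1 : (QuotientGroup.mk (k * y) : G ⧸ Q) = QuotientGroup.mk x := h
    rw [QuotientGroup.eq] at h1
    exact ⟨k, hk, _, h1, by group⟩
  · rintro ⟨k, hk, q, hq, rfl⟩
    refine ⟨⟨k, hk⟩, ?_⟩
    change (QuotientGroup.mk (k * y) : G ⧸ Q) = QuotientGroup.mk (k * y * q)
    rw [QuotientGroup.eq]
    have h1 : (k * y)⁻¹ * (k * y * q) = q := by group
    rwa [h1]

theorem card_orb_map {K Q : Subgroup G} {K' Q' : Subgroup G'} (f : G → G') (hf : Function.Surjective f)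
    (h : ∀ x y, (∃ k ∈ K, ∃ q ∈ Q, x = k * y * q) ↔ (∃ k ∈ K', ∃ q ∈ Q', f x = k * f y * q)) :
    Nat.card (MulAction.orbitRel.Quotient K (G ⧸ Q)) = Nat.card (MulAction.orbitRel.Quotient K' (G' ⧸ Q')) := by
  refine card_eq_of_ker (orb K Q) (fun x => orb K' Q' (f x)) (orb_surjective K Q)
    ((orb_surjective K' Q').comp hf) fun x y => ?_
  rw [orb_eq_iff, orb_eq_iff]
  exact h x y

/-- the orbits of `K` on `G ⧸ R` and `G ⧸ (R ⊔ B)` -/
theorem card_orb_sup {K R B : Subgroup G} (h : ∀ y : G, ∀ b ∈ B, ∃ k ∈ K, ∃ r ∈ R, y * b = k * y * r) :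
    Nat.card (MulAction.orbitRel.Quotient K (G ⧸ R)) = Nat.card (MulAction.orbitRel.Quotient K (G ⧸ (R ⊔ B))) := by
  have key : ∀ q ∈ R ⊔ B, ∀ y : G, ∃ k ∈ K, ∃ r ∈ R, y * q = k * y * r := by
    intro q hq
    rw [Subgroup.sup_eq_closure_mul] at hq
    induction hq using Subgroup.closure_induction with
    | mem x hx =>
      obtain ⟨r, hr, b, hb, rfl⟩ := Set.mem_mul.1 hx
      intro y
      obtain ⟨k, hk, r', hr', h1⟩ := h (y * r) b hb
      exact ⟨k, hk, r * r', mul_mem hr hr', by rw [← mul_assoc, h1]; group⟩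
    | one => intro y; exact ⟨1, one_mem _, 1, one_mem _, by group⟩
    | mul a b _ _ iha ihb =>
      intro y
      obtain ⟨k, hk, r, hr, h1⟩ := iha y
      obtain ⟨k', hk', r', hr', h2⟩ := ihb (y * a)
      refine ⟨k' * k, mul_mem hk' hk, r * r', mul_mem hr hr', ?_⟩
      rw [← mul_assoc, h2, h1]
      group
    | inv a _ ih =>
      intro y
      obtain ⟨k, hk, r, hr, h1⟩ := ih (y * a⁻¹)
      rw [inv_mul_cancel_right] at h1
      refine ⟨k⁻¹, inv_mem hk, r⁻¹, inv_mem hr, ?_⟩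
      conv_rhs => rw [h1]
      group
  refine card_orb_map id Function.surjective_id fun x y => ?_
  constructor
  · rintro ⟨k, hk, r, hr, h1⟩
    exact ⟨k, hk, r, (le_sup_left : R ≤ R ⊔ B) hr, h1⟩
  · rintro ⟨k, hk, q, hq, h1⟩
    obtain ⟨k', hk', r, hr, h2⟩ := key q hq y
    refine ⟨k * k', mul_mem hk hk', r, hr, ?_⟩
    rw [id, id, mul_assoc, h2] at h1
    rw [h1]
    group

end orb

/-! ### the subgroup `Q` -/

section par

variable {G : Type*} [Group G] {P : Cfsg.BNPair G} {U : Subgroup G} {p : ℕ}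

/-- `y B ⊆ B y U` -/
theorem exists_mul_eq (hS : Split P p U) (y : G) {b : G} (hb : b ∈ P.B) :
    ∃ c ∈ P.B, ∃ u ∈ U, y * b = c * y * u := by
  have hc : ∀ b ∈ P.B, ∃ t, t ∈ P.B ∧ t ∈ P.N ∧ ∃ u ∈ U, b = t * u := by
    intro b hb
    obtain ⟨u, hu, t, ht, rfl⟩ := hS.cover' hb
    obtain ⟨ht1, ht2⟩ := Subgroup.mem_inf.1 ht
    refine ⟨t, ht1, ht2, t⁻¹ * u * t, ?_, by group⟩
    simpa only [_root_.inv_inv] using hS.norm t⁻¹ (inv_mem ht1) u hu
  obtain ⟨n, hn, hy⟩ := bruhat (P := P) y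
  obtain ⟨b₁, hb₁, b₂, hb₂, rfl⟩ := mem_C.1 hy
  obtain ⟨t₂, h2, h2', u₂, hu₂, rfl⟩ := hc b₂ hb₂
  obtain ⟨t₃, h3, h3', u₃, hu₃, e3⟩ := hc (t₂ * u₂ * b) (mul_mem hb₂ hb)
  have c2 := P.conj_mem n hn t₂ (Subgroup.mem_inf.2 ⟨h2, h2'⟩)
  have c3 := P.conj_mem n hn t₃ (Subgroup.mem_inf.2 ⟨h3, h3'⟩)
  refine ⟨b₁ * (n * t₃ * n⁻¹) * (b₁ * (n * t₂ * n⁻¹))⁻¹,
    mul_mem (mul_mem hb₁ c3) (inv_mem (mul_mem hb₁ c2)), u₂⁻¹ * u₃, mul_mem (inv_mem hu₂) hu₃, ?_⟩
  have e : b₁ * n * (t₂ * u₂) * b = b₁ * n * (t₂ * u₂ * b) := by group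
  rw [e, e3]
  group

theorem U_ne_bot (hS : Split P p U) (hne : P.S.Nonempty) : U ≠ ⊥ := by
  obtain ⟨s, hs⟩ := hne
  obtain ⟨V, hV⟩ := hS.node s hs
  obtain ⟨u, hu, huV⟩ := hV.ne
  intro h
  rw [h, Subgroup.mem_bot] at hu
  exact huV (hu ▸ one_mem V)

/-- `RO` gives a proper subgroup containing `B` -/
theorem exists_par [Finite G] [IsSimpleGroup G] (hS : Split P 2 U) (hne : P.S.Nonempty) {R : Subgroup G}
    (hR : RO G R) (h : R ≠ ⊤) : ∃ Q : Subgroup G, P.B ≤ Q ∧ Q ≠ ⊤ ∧
      ∀ K : Subgroup G, P.B ≤ K → Odd (Nat.card (MulAction.orbitRel.Quotient K (G ⧸ Q))) := by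
  obtain ⟨g, hg⟩ := Cov.two_group hR.odd_index hS.isP
  set R' := R.comap (MulAut.conj g).toMonoidHom with hR'def
  have hR' : RO G R' := hR.comap (MulAut.conj g)
  have hU : U ≤ R' := fun u hu => hg u hu
  have hB : ∀ K : Subgroup G, P.B ≤ K → ∀ y : G, ∀ b ∈ P.B, ∃ k ∈ K, ∃ r ∈ R', y * b = k * y * r := by
    intro K hK y b hb
    obtain ⟨c, hc, u, hu, h1⟩ := exists_mul_eq hS y hb
    exact ⟨c, hK hc, u, hU hu, h1⟩
  refine ⟨R' ⊔ P.B, le_sup_right, fun htop => h ?_, fun K hK => ?_⟩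
  · -- `G = B R'`
    have hc1 := card_orb_sup (hB P.B le_rfl)
    rw [htop] at hc1
    have hsub : Subsingleton (MulAction.orbitRel.Quotient P.B (G ⧸ (⊤ : Subgroup G))) := by
      refine ⟨fun a b => ?_⟩
      obtain ⟨x, rfl⟩ := orb_surjective _ _ a
      obtain ⟨y, rfl⟩ := orb_surjective _ _ b
      rw [orb_eq_iff]
      exact ⟨1, one_mem _, y⁻¹ * x, Subgroup.mem_top _, by group⟩
    have hle : Nat.card (MulAction.orbitRel.Quotient P.B (G ⧸ R')) ≤ 1 := by
      rw [hc1]
      exact Finite.card_le_one_iff_subsingleton.2 hsub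
    have hsub' := Finite.card_le_one_iff_subsingleton.1 hle
    have hBR : ∀ x : G, ∃ b ∈ P.B, ∃ r ∈ R', x = b * r := by
      intro x
      have h1 : orb P.B R' x = orb P.B R' 1 := Subsingleton.elim _ _
      obtain ⟨k, hk, r, hr, h2⟩ := orb_eq_iff.1 h1
      exact ⟨k, hk, r, hr, by rw [h2]; group⟩
    have hcon : ∀ x : G, ∀ u ∈ U, x * u * x⁻¹ ∈ R' := by
      intro x u hu
      obtain ⟨b, hb, r, hr, h2⟩ := hBR x⁻¹
      have h3 : x = r⁻¹ * b⁻¹ := by rw [← mul_inv_rev, ← h2, inv_inv]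
      have h4 := hS.norm b⁻¹ (inv_mem hb) u hu
      rw [inv_inv] at h4
      have h5 : x * u * x⁻¹ = r⁻¹ * (b⁻¹ * u * b) * r := by rw [h3]; group
      rw [h5]
      exact mul_mem (mul_mem (inv_mem hr) (hU h4)) hr
    have hnc : Subgroup.normalClosure (U : Set G) ≤ R' := by
      rw [Subgroup.normalClosure, Subgroup.closure_le]
      intro y hy
      obtain ⟨u, hu, hy⟩ := Group.mem_conjugatesOfSet_iff.1 hy
      obtain ⟨x, rfl⟩ := isConj_iff.1 hy
      exact hcon x u hu
    have hnt : Subgroup.normalClosure (U : Set G) = ⊤ := by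
      rcases (Subgroup.normalClosure_normal (s := (U : Set G))).eq_bot_or_eq_top with h1 | h1
      · exact absurd (le_bot_iff.1 (h1 ▸ Subgroup.le_normalClosure)) (U_ne_bot hS hne)
      · exact h1
    rw [hnt] at hnc
    rw [eq_top_iff]
    intro x _
    have h1 : g⁻¹ * x * g ∈ R' := hnc (Subgroup.mem_top _)
    have h2 : g * (g⁻¹ * x * g) * g⁻¹ ∈ R := h1
    have h3 : g * (g⁻¹ * x * g) * g⁻¹ = x := by group
    rwa [h3] at h2
  · rw [← card_orb_sup (hB K hK)]
    exact hR'.odd_orb K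

end par

/-! ### counting in the Weyl group -/

section count

variable {G : Type*} [Group G] (P : Cfsg.BNPair G) [hN : ((P.B ⊓ P.N).subgroupOf P.N).Normal] {I : Type*}
  {M : CoxeterMatrix I} {e : I ≃ P.S} (cs : CoxeterSystem M (WP P))

omit hN in
theorem wt_surjective : Function.Surjective (wt P) := by
  intro w
  obtain ⟨n, rfl⟩ := QuotientGroup.mk_surjective w
  exact ⟨n, wt_of_mem P (self_mem_C (n : G))⟩

theorem wt_inv (g : G) : wt P g⁻¹ = (wt P g)⁻¹ := by
  obtain ⟨n, hn⟩ := exists_mem_C P g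
  rw [wt_of_mem P hn, wt_of_mem P (n := n⁻¹) (inv_mem_C hn)]
  rfl

variable {P}

/-- the representatives with index in `J` -/
def rs (e : I ≃ P.S) (J : Set I) : Set G := (fun i => (e i : G)) '' J

variable (hcs : ∀ i, cs.simple i = QuotientGroup.mk (⟨(e i : G), P.subset (e i).2⟩ : P.N))

include hcs

theorem wt_simple_mul (i : I) (x : G) : wt P ((e i : G) * x) = cs.simple i * wt P x ∨
    wt P ((e i : G) * x) = wt P x := by
  obtain ⟨n, hn⟩ := exists_mem_C P x
  obtain ⟨b, hb, b', hb', rfl⟩ := mem_C.1 hn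
  have h1 : (e i : G) * (b * n * b') = ((e i : G) * b * n) * b' := by group
  rw [h1, wt_mul_right P _ hb', wt_of_mem P hn, hcs i]
  rcases axiom_left (P := P) (e i).2 n.2 hb with h2 | h2
  · left
    rw [wt_of_mem P (n := (⟨(e i : G), P.subset (e i).2⟩ * n :)) h2]
    rfl
  · right
    rw [wt_of_mem P (n := n) h2]

theorem wt_par_mul {J : Set I} {k : G} (hk : k ∈ P.parabolic (rs e J)) :
    ∀ x : G, ∃ w ∈ WJ cs J, wt P (k * x) = w * wt P x := by
  have hle : P.parabolic (rs e J) = Subgroup.closure ((P.B : Set G) ∪ rs e J) := by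
    rw [Subgroup.closure_union, Subgroup.closure_eq]; rfl
  rw [hle] at hk
  induction hk using Subgroup.closure_induction with
  | mem y hy =>
    intro x
    rcases hy with hy | ⟨i, hi, rfl⟩
    · exact ⟨1, one_mem _, by rw [wt_mul_left P x hy, one_mul]⟩
    · rcases wt_simple_mul cs hcs i x with h1 | h1
      · exact ⟨cs.simple i, Subgroup.subset_closure ⟨i, hi, rfl⟩, h1⟩
      · exact ⟨1, one_mem _, by rw [one_mul]; exact h1⟩
  | one => intro x; exact ⟨1, one_mem _, by rw [one_mul, one_mul]⟩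
  | mul a b _ _ iha ihb =>
    intro x
    obtain ⟨w, hw, h1⟩ := iha (b * x)
    obtain ⟨w', hw', h2⟩ := ihb x
    exact ⟨w * w', mul_mem hw hw', by rw [mul_assoc, h1, h2, mul_assoc]⟩
  | inv a _ ih =>
    intro x
    obtain ⟨w, hw, h1⟩ := ih (a⁻¹ * x)
    rw [mul_inv_cancel_left] at h1
    exact ⟨w⁻¹, inv_mem hw, by rw [h1, inv_mul_cancel_left]⟩

theorem rep_mem_par {J : Set I} {w : WP P} (hw : w ∈ WJ cs J) :
    ∃ n : P.N, (QuotientGroup.mk n : WP P) = w ∧ (n : G) ∈ P.parabolic (rs e J) := by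
  unfold WJ at hw
  induction hw using Subgroup.closure_induction with
  | mem y hy =>
    obtain ⟨i, hi, rfl⟩ := hy
    exact ⟨⟨(e i : G), P.subset (e i).2⟩, (hcs i).symm,
      (le_sup_right : Subgroup.closure (rs e J) ≤ P.parabolic (rs e J)) (Subgroup.subset_closure ⟨i, hi, rfl⟩)⟩
  | one => exact ⟨1, rfl, one_mem _⟩
  | mul a b _ _ iha ihb =>
    obtain ⟨n, h1, h2⟩ := iha
    obtain ⟨m, h3, h4⟩ := ihb
    exact ⟨n * m, by rw [QuotientGroup.mk_mul, h1, h3], mul_mem h2 h4⟩
  | inv a _ ih =>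
    obtain ⟨n, h1, h2⟩ := ih
    exact ⟨n⁻¹, by rw [QuotientGroup.mk_inv, h1], inv_mem h2⟩

/-- the double cosets of parabolic subgroups -/
theorem card_orb_par (J K : Set I) :
    Nat.card (MulAction.orbitRel.Quotient (P.parabolic (rs e K)) (G ⧸ P.parabolic (rs e J))) =
      Nat.card (MulAction.orbitRel.Quotient (WJ cs K) (WP P ⧸ WJ cs J)) := by
  refine card_orb_map (wt P) (wt_surjective P) fun x y => ?_
  constructor
  · rintro ⟨k, hk, q, hq, rfl⟩
    obtain ⟨a, ha, h1⟩ := wt_par_mul cs hcs hk (y * q)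
    obtain ⟨b, hb, h2⟩ := wt_par_mul cs hcs (inv_mem hq) y⁻¹
    have h3 : wt P (y * q) = wt P y * b⁻¹ := by
      have h4 := wt_inv P (y * q)
      rw [mul_inv_rev, h2, wt_inv] at h4
      rw [← inv_inv (wt P (y * q)), ← h4, mul_inv_rev, inv_inv]
    exact ⟨a, ha, b⁻¹, inv_mem hb, by rw [mul_assoc, h1, h3, mul_assoc]⟩
  · rintro ⟨a, ha, b, hb, h1⟩
    obtain ⟨na, rfl, ha'⟩ := rep_mem_par cs hcs ha
    obtain ⟨nb, rfl, hb'⟩ := rep_mem_par cs hcs hb
    obtain ⟨ny, hny⟩ := exists_mem_C P y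
    rw [wt_of_mem P hny] at h1
    have hx : x ∈ C P ((na * ny * nb : P.N) : G) := mem_C_of_wt P h1
    obtain ⟨b₁, hb₁, b₂, hb₂, rfl⟩ := mem_C.1 hny
    obtain ⟨c₁, hc₁, c₂, hc₂, rfl⟩ := mem_C.1 hx
    have hB1 : P.B ≤ P.parabolic (rs e K) := le_sup_left
    have hB2 : P.B ≤ P.parabolic (rs e J) := le_sup_left
    refine ⟨c₁ * na * b₁⁻¹, mul_mem (mul_mem (hB1 hc₁) ha') (inv_mem (hB1 hb₁)),
      b₂⁻¹ * nb * c₂, mul_mem (mul_mem (inv_mem (hB2 hb₂)) hb') (hB2 hc₂), ?_⟩
    push_cast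
    group

end count

/-! ### the Coxeter group -/

section cox

variable {I : Type*} (M : CoxeterMatrix I)

/-- the number of `(W_K, W_J)`-double cosets in the Coxeter group of `M` -/
noncomputable def Par (J K : Set I) : ℕ :=
  Nat.card (MulAction.orbitRel.Quotient (WJ M.toCoxeterSystem K) (M.Group ⧸ WJ M.toCoxeterSystem J))

/-- for each proper `J` there is `K` with an even number of double cosets -/
def EvenPar : Prop := ∀ J : Set I, J ≠ Set.univ → ∃ K : Set I, Even (Par M J K)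

variable {M} {W : Type*} [Group W] (cs : CoxeterSystem M W)

theorem mem_WJ_mulEquiv (J : Set I) (w : W) : w ∈ WJ cs J ↔ cs.mulEquiv w ∈ WJ M.toCoxeterSystem J := by
  have h1 : (WJ cs J).map cs.mulEquiv.toMonoidHom = WJ M.toCoxeterSystem J := by
    unfold WJ
    rw [MonoidHom.map_closure, ← Set.image_comp]
    congr 1
    refine Set.image_congr fun i _ => ?_
    exact cs.mulEquiv.apply_symm_apply _
  rw [← h1]
  exact (Subgroup.mem_map_iff_mem cs.mulEquiv.injective).symm

theorem par_eq (J K : Set I) :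
    Nat.card (MulAction.orbitRel.Quotient (WJ cs K) (W ⧸ WJ cs J)) = Par M J K := by
  unfold Par
  refine card_orb_map cs.mulEquiv cs.mulEquiv.surjective fun x y => ?_
  constructor
  · rintro ⟨k, hk, q, hq, rfl⟩
    exact ⟨_, (mem_WJ_mulEquiv cs K k).1 hk, _, (mem_WJ_mulEquiv cs J q).1 hq, by rw [map_mul, map_mul]⟩
  · rintro ⟨k, hk, q, hq, h1⟩
    refine ⟨cs.mulEquiv.symm k, (mem_WJ_mulEquiv cs K _).2 (by rwa [MulEquiv.apply_symm_apply]),
      cs.mulEquiv.symm q, (mem_WJ_mulEquiv cs J _).2 (by rwa [MulEquiv.apply_symm_apply]), ?_⟩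
    apply cs.mulEquiv.injective
    rw [map_mul, map_mul, MulEquiv.apply_symm_apply, MulEquiv.apply_symm_apply, h1]

theorem par_empty (J : Set I) : Par M J ∅ = (WJ M.toCoxeterSystem J).index := by
  unfold Par
  have h1 : WJ M.toCoxeterSystem (∅ : Set I) = ⊥ := by
    unfold WJ
    rw [Set.image_empty, Subgroup.closure_empty]
  have h2 : Function.Bijective (fun ω : M.Group ⧸ WJ M.toCoxeterSystem J =>
      (Quotient.mk'' ω : MulAction.orbitRel.Quotient (WJ M.toCoxeterSystem (∅ : Set I))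
        (M.Group ⧸ WJ M.toCoxeterSystem J))) := by
    constructor
    · intro a b hab
      have h3 : (Quotient.mk'' a : MulAction.orbitRel.Quotient (WJ M.toCoxeterSystem (∅ : Set I))
        (M.Group ⧸ WJ M.toCoxeterSystem J)) = Quotient.mk'' b := hab
      rw [Quotient.eq'', MulAction.orbitRel_apply] at h3
      obtain ⟨⟨k, hk⟩, h4⟩ := h3
      rw [h1, Subgroup.mem_bot] at hk
      subst hk
      rw [← h4]
      exact one_smul M.Group b
    · exact Quotient.mk''_surjective
  exact (Nat.card_congr (Equiv.ofBijective _ h2)).symm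

/-- a central involution in no proper parabolic subgroup -/
theorem evenPar_of_central [Finite M.Group] (z : M.Group) (hz : z * z = 1) (hc : ∀ w : M.Group, z * w = w * z)
    (hJ : ∀ J : Set I, J ≠ Set.univ → z ∉ WJ M.toCoxeterSystem J) : EvenPar M := by
  intro J hJ1
  refine ⟨∅, ?_⟩
  rw [par_empty]
  have hzJ := hJ J hJ1
  -- `z` acts without fixed points
  have h1 : (Nat.card (M.Group ⧸ WJ M.toCoxeterSystem J)) % 2 = 0 := by
    have : Finite (M.Group ⧸ WJ M.toCoxeterSystem J) := inferInstance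
    have hp : IsPGroup 2 (Subgroup.zpowers z) := by
      rintro ⟨x, hx⟩
      obtain ⟨k, rfl⟩ := Subgroup.mem_zpowers_iff.1 hx
      refine ⟨1, Subtype.ext ?_⟩
      change (z ^ k) ^ 2 ^ 1 = 1
      rw [pow_one, ← zpow_natCast, ← zpow_mul, mul_comm, zpow_mul, zpow_natCast, sq, hz, one_zpow]
    have : Fact (Nat.Prime 2) := ⟨Nat.prime_two⟩
    have h2 := hp.card_modEq_card_fixedPoints (M.Group ⧸ WJ M.toCoxeterSystem J)
    have h3 : Nat.card (MulAction.fixedPoints (Subgroup.zpowers z) (M.Group ⧸ WJ M.toCoxeterSystem J)) = 0 := by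
      rw [Nat.card_eq_zero]
      left
      refine ⟨?_⟩
      rintro ⟨ω, hω⟩
      obtain ⟨w, rfl⟩ := QuotientGroup.mk_surjective ω
      have h3 : (QuotientGroup.mk (z * w) : M.Group ⧸ WJ M.toCoxeterSystem J) = QuotientGroup.mk w :=
        hω ⟨z, Subgroup.mem_zpowers z⟩
      rw [QuotientGroup.eq, hc w, mul_inv_rev, inv_mul_cancel_right] at h3
      exact hzJ (by rw [← inv_inv z]; exact inv_mem h3)
    rw [h3] at h2
    exact h2
  exact Nat.even_iff.2 h1

end cox

/-! ### the main theorem -/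

/-- **Characteristic two.** -/
theorem row_of_type {G : Type*} [Group G] [Finite G] [IsSimpleGroup G] {I : Type*} [Nonempty I] {M : CoxeterMatrix I}
    {P : Cfsg.BNPair G} {U : Subgroup G} {e : I ≃ P.S} (hS : Split P 2 U) (hM : BNType P M e) (hE : EvenPar M) :
    Row G := by
  intro R hR
  by_contra hne
  obtain ⟨i0⟩ := ‹Nonempty I›
  obtain ⟨Q, hBQ, hQ, hodd⟩ := exists_par hS ⟨e i0, (e i0).2⟩ hR hne
  obtain ⟨hN, cs, hcs⟩ := hM
  set J : Set I := {i | (e i : G) ∈ Q} with hJ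
  have hQJ : Q = P.parabolic (rs e J) := by
    have h1 := eq_parabolic (P := P) hBQ
    have h2 : P.S ∩ Q = rs e J := by
      ext x
      constructor
      · rintro ⟨hx, hxQ⟩
        refine ⟨e.symm ⟨x, hx⟩, ?_, ?_⟩
        · change (e (e.symm ⟨x, hx⟩) : G) ∈ Q
          rw [Equiv.apply_symm_apply]
          exact hxQ
        · change (e (e.symm ⟨x, hx⟩) : G) = x
          rw [Equiv.apply_symm_apply]
      · rintro ⟨i, hi, rfl⟩
        exact ⟨(e i).2, hi⟩
    rwa [h2] at h1
  have hJ1 : J ≠ Set.univ := by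
    intro h1
    apply hQ
    rw [eq_top_iff, ← parabolic_S_eq_top (P := P)]
    refine sup_le hBQ ((Subgroup.closure_le _).2 fun x hx => ?_)
    have h2 : e.symm ⟨x, hx⟩ ∈ J := by rw [h1]; trivial
    have h3 : (e (e.symm ⟨x, hx⟩) : G) ∈ Q := h2
    rwa [Equiv.apply_symm_apply] at h3
  obtain ⟨K, hK⟩ := hE J hJ1
  have h1 := hodd (P.parabolic (rs e K)) le_sup_left
  rw [hQJ, card_orb_par cs hcs, par_eq cs] at h1
  exact Nat.not_even_iff_odd.2 h1 hK

end Cfsg.Agent.H551.OddTwo
end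

-- part: H551/OddTwoNeg
section
/-!
# S4785, characteristic two: the Weyl groups with `-1` (helper551)

* `evenPar_of_neg` : `EvenPar M` if some element acts as `-1` on the root lattice;
* `evenPar_B`, `evenPar_D` (even rank), `evenPar_E7`, `evenPar_E8`, `evenPar_F4`, `evenPar_G2`, `evenPar_one` (rank one).
-/

set_option autoImplicit false

namespace Cfsg.Agent.H551.OddTwo

open CoxeterSystem Cfsg.Agent.ChevalleyStructure.CoxeterGeom Cfsg.Agent.Tits.Roots Cfsg.Agent.Tits.Core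
  Cfsg.Agent.Tits.RootComb

section neg

variable {I : Type*} [Fintype I] [DecidableEq I] {M : CoxeterMatrix I} {A : I → I → ℤ}

theorem evenPar_of_neg [Finite M.Group] (h : IsCartan M A) (z : M.Group)
    (hz : ∀ x, rep M.toCoxeterSystem h z x = -x) : EvenPar M := by
  have hinj := rep_injective M.toCoxeterSystem h
  refine evenPar_of_central z ?_ ?_ ?_
  · apply hinj
    rw [map_one]
    refine LinearMap.ext fun x => ?_
    rw [rep_mul_apply, hz, hz, neg_neg]
    rfl
  · intro w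
    apply hinj
    refine LinearMap.ext fun x => ?_
    rw [rep_mul_apply, rep_mul_apply, hz, hz, map_neg]
  · intro J hJ hzJ
    obtain ⟨k, hk⟩ : ∃ k, k ∉ J := by
      by_contra hcon
      push Not at hcon
      exact hJ (Set.eq_univ_of_forall hcon)
    have h1 := rep_apply_of_mem M.toCoxeterSystem h hzJ (sr k) hk
    rw [hz, Pi.neg_apply, sr_self] at h1
    omega

theorem evenPar_of_neg_sr [Finite M.Group] (h : IsCartan M A) (z : M.Group)
    (hz : ∀ i, rep M.toCoxeterSystem h z (sr i) = -sr i) : EvenPar M := by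
  refine evenPar_of_neg h z fun x => ?_
  have hx : x = ∑ k, x k • sr k := by
    funext k
    rw [Finset.sum_apply, Finset.sum_eq_single k (fun b _ hb => by
      rw [Pi.smul_apply, sr_ne hb.symm, smul_zero]) (by simp only [_root_.Finset.mem_univ, _root_.not_true_eq_false, _root_.Pi.smul_apply, _root_.Int.zsmul_eq_mul, _root_.mul_eq_zero, _root_.IsEmpty.forall_iff]), Pi.smul_apply, sr_self, smul_eq_mul, mul_one]
  rw [hx, map_sum, ← Finset.sum_neg_distrib]
  refine Finset.sum_congr rfl fun k _ => ?_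
  rw [map_smul, hz, smul_neg]

end neg

/-! ### words -/

section word

variable {l : ℕ} {M : CoxeterMatrix (Fin l)} {A : Fin l → Fin l → ℤ}

/-- a vector from a list -/
def vec (l : ℕ) (v : List ℤ) : Fin l → ℤ := fun k => v.getD k 0

/-- the reflection on lists -/
def stepF (A : Fin l → Fin l → ℤ) (i : Fin l) (v : List ℤ) : List ℤ :=
  let c := ((List.finRange l).map fun k => A i k * v.getD k 0).sum
  (List.finRange l).map fun k => if k = i then v.getD k 0 - c else v.getD k 0

theorem vec_stepF (i : Fin l) (v : List ℤ) : vec l (stepF A i v) = refl A i (vec l v) := by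
  funext k
  have h1 : ((List.finRange l).map fun k => A i k * v.getD k 0).sum = ∑ k : Fin l, A i k * v.getD k 0 := by
    rw [← List.sum_ofFn, List.ofFn_eq_map]
  have h2 : vec l (stepF A i v) k = if k = i then v.getD k 0 - ∑ k : Fin l, A i k * v.getD k 0 else v.getD k 0 := by
    rw [← h1]
    unfold vec stepF
    rw [List.getD_eq_getElem _ _ (by simp only [_root_.List.getD_eq_getElem?_getD, _root_.List.length_map, _root_.List.length_finRange, _root_.Fin.is_lt]), List.getElem_map, List.getElem_finRange]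
    rfl
  rw [h2, refl_apply, Pi.sub_apply]
  unfold vec pairing
  by_cases hk : k = i
  · rw [if_pos hk, hk, Pi.single_eq_same]
  · rw [if_neg hk, Pi.single_eq_of_ne hk, sub_zero]

/-- the check -/
def negOK (l : ℕ) (A : Fin l → Fin l → ℤ) (ω : List (Fin l)) : Bool :=
  (List.finRange l).all fun i =>
    (ω.foldr (stepF A) ((List.finRange l).map fun k => if k = i then 1 else 0)) =
      ((List.finRange l).map fun k => if k = i then -1 else 0)

theorem vec_single (i : Fin l) (c : ℤ) : vec l ((List.finRange l).map fun k => if k = i then c else 0) =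
    c • sr i := by
  funext k
  unfold vec sr
  rw [List.getD_eq_getElem _ _ (by simp), List.getElem_map, List.getElem_finRange]
  simp [Pi.single_apply]

theorem evenPar_of_negOK [Finite M.Group] (h : IsCartan M A) (ω : List (Fin l)) (hω : negOK l A ω = true) :
    EvenPar M := by
  refine evenPar_of_neg_sr h (M.toCoxeterSystem.wordProd ω) fun i => ?_
  have key : ∀ (ω : List (Fin l)) (v : List ℤ), rep M.toCoxeterSystem h (M.toCoxeterSystem.wordProd ω) (vec l v) =
      vec l (ω.foldr (stepF A) v) := by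
    intro ω v
    induction ω with
    | nil => rw [wordProd_nil, map_one]; rfl
    | cons j ω ih => rw [wordProd_cons, rep_mul_apply, ih, rep_simple, List.foldr_cons, vec_stepF]
  have h1 := List.all_eq_true.1 hω i (List.mem_finRange i)
  simp only [decide_eq_true_eq] at h1
  have h2 := key ω ((List.finRange l).map fun k => if k = i then 1 else 0)
  rw [h1, vec_single, vec_single, one_smul, neg_one_smul] at h2
  exact h2

end word

/-- the simply laced Cartan matrix -/
def cartanOf {l : ℕ} (M : CoxeterMatrix (Fin l)) (i j : Fin l) : ℤ :=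
  if i = j then 2 else if M i j = 2 then 0 else -1

theorem isCartan_cartanOf {l : ℕ} (M : CoxeterMatrix (Fin l)) (hM : ∀ i j : Fin l, i ≠ j → M i j = 2 ∨ M i j = 3) :
    IsCartan M (cartanOf M) where
  diag i := by rw [cartanOf, if_pos rfl]
  rel i j hij := by
    have hs : M j i = M i j := M.symmetric j i
    rcases hM i j hij with h1 | h1
    · left
      exact ⟨h1, by rw [cartanOf, if_neg hij, if_pos h1], by rw [cartanOf, if_neg hij.symm, hs, if_pos h1]⟩
    · right; left
      exact ⟨h1, by rw [cartanOf, if_neg hij, if_neg (by omega)],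
        by rw [cartanOf, if_neg hij.symm, hs, if_neg (by omega)]⟩

private noncomputable def _root_.Cfsg.Agent.LsF.fafe149_0 : {f // @Cfsg.Agent.H551.OddTwo.stepF = f} := ⟨_, by first | (delta Cfsg.Agent.H551.OddTwo.stepF; rewrite [Cfsg.Agent.LsF.imul_pat, Cfsg.Agent.LsF.isub_pat, Cfsg.Agent.LsF.map_eq, Cfsg.Agent.LsF.sum_eq, Cfsg.Agent.LsF.getD_eq, Cfsg.Agent.LsF.instIAdd_eq, Cfsg.Agent.LsF.dFinEq_eq, Cfsg.Agent.LsF.finRange_eq, Cfsg.Agent.LsF.ite_eq]; exact rfl) | exact rfl⟩
private noncomputable def _root_.Cfsg.Agent.LsF.fafe149_1 : {f // @Cfsg.Agent.H551.OddTwo.negOK = f} := ⟨_, by first | (delta Cfsg.Agent.H551.OddTwo.negOK; rewrite [Cfsg.Agent.LsF.fafe149_0.2, Cfsg.Agent.LsF.ineg_pat, Cfsg.Agent.LsF.all_eq, Cfsg.Agent.LsF.map_eq, Cfsg.Agent.LsF.foldr_eq, Cfsg.Agent.LsF.instIDecEq_eq, Cfsg.Agent.LsF.dFinEq_eq, Cfsg.Agent.LsF.dListEq_eq, Cfsg.Agent.LsF.finRange_eq, Cfsg.Agent.LsF.ite_eq, Cfsg.Agent.LsF.decide_eq]; exact rfl) | exact rfl⟩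
private noncomputable def _root_.Cfsg.Agent.LsF.fafe149_2 : {f // @Cfsg.Agent.H551.OddTwo.cartanOf = f} := ⟨_, by first | (delta Cfsg.Agent.H551.OddTwo.cartanOf; rewrite [Cfsg.Agent.LsF.ineg_pat, Cfsg.Agent.LsF.instDecEq_eq, Cfsg.Agent.LsF.dFinEq_eq, Cfsg.Agent.LsF.ite_eq]; exact rfl) | exact rfl⟩
theorem evenPar_E7 [Finite CoxeterMatrix.E₇.Group] : EvenPar CoxeterMatrix.E₇ := by
  refine evenPar_of_negOK (isCartan_cartanOf _ ?_)
    ((List.replicate 9 [0, 1, 2, 3, 4, 5, 6]).flatten) ?_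
  · intro i j
    fin_cases i <;> fin_cases j <;> decide
  · ((try (rewrite [Cfsg.Agent.LsF.fafe149_1.2, Cfsg.Agent.LsF.fafe149_2.2, Cfsg.Agent.LsF.flatten_eq, Cfsg.Agent.LsF.replicate_eq])); decide +kernel)

theorem evenPar_E8 [Finite CoxeterMatrix.E₈.Group] : EvenPar CoxeterMatrix.E₈ := by
  refine evenPar_of_negOK (isCartan_cartanOf _ ?_)
    ((List.replicate 15 [0, 1, 2, 3, 4, 5, 6, 7]).flatten) ?_
  · intro i j
    fin_cases i <;> fin_cases j <;> decide
  · ((try (rewrite [Cfsg.Agent.LsF.fafe149_1.2, Cfsg.Agent.LsF.fafe149_2.2, Cfsg.Agent.LsF.flatten_eq, Cfsg.Agent.LsF.replicate_eq])); decide +kernel)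

/-- a Cartan matrix of type `F₄` -/
def AF4 : Fin 4 → Fin 4 → ℤ := ![![2, -1, 0, 0], ![-1, 2, -2, 0], ![0, -1, 2, -1], ![0, 0, -1, 2]]

theorem isCartan_F4 : IsCartan CoxeterMatrix.F₄ AF4 where
  diag i := by fin_cases i <;> rfl
  rel i j := by
    fin_cases i <;> fin_cases j <;> decide

theorem evenPar_F4 [Finite CoxeterMatrix.F₄.Group] : EvenPar CoxeterMatrix.F₄ := by
  refine evenPar_of_negOK isCartan_F4 ((List.replicate 6 [0, 1, 2, 3]).flatten) ?_
  decide +kernel

/-- a Cartan matrix of type `G₂` -/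
def AG2 : Fin 2 → Fin 2 → ℤ := ![![2, -1], ![-3, 2]]

theorem isCartan_G2 : IsCartan CoxeterMatrix.G₂ AG2 where
  diag i := by fin_cases i <;> rfl
  rel i j := by
    fin_cases i <;> fin_cases j <;> decide

theorem evenPar_G2 [Finite CoxeterMatrix.G₂.Group] : EvenPar CoxeterMatrix.G₂ := by
  refine evenPar_of_negOK isCartan_G2 ((List.replicate 3 [0, 1]).flatten) ?_
  decide +kernel

theorem evenPar_one (M : CoxeterMatrix (Fin 1)) [Finite M.Group] : EvenPar M := by
  refine evenPar_of_negOK (A := fun _ _ => 2) ⟨fun _ => rfl, fun i j hij => absurd (Subsingleton.elim i j) hij⟩ [0] ?_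
  decide +kernel

/-! ### Words in maps -/

/-- `f` is a product of the maps `g i` -/
def Gen {l : ℕ} {X : Type*} (g : Fin l → X → X) (f : X → X) : Prop := ∃ ω : List (Fin l), ∀ x, ω.foldr g x = f x

section gen

variable {l : ℕ} {X : Type*} {g : Fin l → X → X}

theorem Gen.id : Gen g fun x => x := ⟨[], fun _ => rfl⟩

theorem Gen.simple (i : Fin l) : Gen g (g i) := ⟨[i], fun _ => rfl⟩

theorem Gen.comp {a b : X → X} (ha : Gen g a) (hb : Gen g b) : Gen g fun x => a (b x) := by
  obtain ⟨ω, h1⟩ := ha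
  obtain ⟨ω', h2⟩ := hb
  exact ⟨ω ++ ω', fun x => by rw [List.foldr_append, h2, h1]⟩

theorem Gen.congr {a b : X → X} (ha : Gen g a) (h : ∀ x, a x = b x) : Gen g b := by
  obtain ⟨ω, h1⟩ := ha
  exact ⟨ω, fun x => (h1 x).trans (h x)⟩

end gen

/-! ### Type `B_n` -/

section TypeB

open Cfsg.Agent.Nodes.TypeC

variable {n : ℕ}

/-- the sign change of the index `k` -/
def flipB (k : ℕ) (x : Fin n × Bool) : Fin n × Bool := if (x.1 : ℕ) = k then ng x else x

theorem flipB_pos {k : ℕ} {x : Fin n × Bool} (h : (x.1 : ℕ) = k) : flipB k x = ng x := if_pos h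

theorem flipB_neg {k : ℕ} {x : Fin n × Bool} (h : (x.1 : ℕ) ≠ k) : flipB k x = x := if_neg h

theorem gen_flipB (d : ℕ) : ∀ k : ℕ, k + d + 1 = n → Gen (sg (n := n)) (flipB k) := by
  induction d with
  | zero =>
    intro k hk
    refine (Gen.simple (⟨k, by omega⟩ : Fin n)).congr ?_
    rintro ⟨i, s⟩
    by_cases h : (i : ℕ) = k
    · have hi : i = (⟨k, by omega⟩ : Fin n) := Fin.ext h
      rw [flipB_pos h, hi, sg_last (by simp only; omega)]
      rfl
    · rw [flipB_neg h, sg_of_ne (fun e => h (congrArg Fin.val e)) (by have := i.2; simp only; omega)]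
  | succ d ih =>
    intro k hk
    obtain ⟨i, rfl⟩ : ∃ i : Fin n, (i : ℕ) = k := ⟨⟨k, by omega⟩, rfl⟩
    have hi : (i : ℕ) + 1 < n := by omega
    have h2 := Gen.simple (g := sg (n := n)) i
    refine (h2.comp ((ih (i + 1) (by omega)).comp h2)).congr fun x => ?_
    have h3 : ((sg i x).1 : ℕ) = (if (x.1 : ℕ) = i then (i : ℕ) + 1 else if (x.1 : ℕ) = i + 1 then (i : ℕ) else x.1) := by
      obtain ⟨a, s⟩ := x
      unfold sg
      rw [dif_pos hi]
      by_cases ha : a = i
      · rw [if_pos ha, if_pos (congrArg Fin.val ha)]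
      · rw [if_neg ha, if_neg (fun e => ha (Fin.ext e))]
        by_cases hb : a = ⟨i + 1, hi⟩
        · rw [if_pos hb, if_pos (congrArg Fin.val hb)]
        · rw [if_neg hb, if_neg (fun e => hb (Fin.ext e))]
    by_cases h4 : (x.1 : ℕ) = i
    · rw [flipB_pos h4, flipB_pos (by rw [h3, if_pos h4]), sg_ng, sg_sg]
    · rw [flipB_neg h4, flipB_neg (by rw [h3]; split_ifs <;> omega), sg_sg]

theorem gen_ngB : Gen (sg (n := n)) ng := by
  have key : ∀ m : ℕ, m ≤ n → Gen (sg (n := n)) (fun x => if (x.1 : ℕ) < m then ng x else x) := by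
    intro m
    induction m with
    | zero => intro _; exact Gen.id.congr fun x => by simp
    | succ m ih =>
      intro hm
      refine ((gen_flipB (n - m - 1) m (by omega)).comp (ih (by omega))).congr ?_
      intro x
      rcases lt_trichotomy (x.1 : ℕ) m with h2 | h2 | h2
      · have h3 : (x.1 : ℕ) < m + 1 := by omega
        rw [if_pos h2, if_pos h3, flipB_neg (by rw [ng_fst]; omega)]
      · have h3 : (x.1 : ℕ) < m + 1 := by omega
        have h4 : ¬ (x.1 : ℕ) < m := by omega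
        rw [if_neg h4, if_pos h3, flipB_pos h2]
      · have h3 : ¬ (x.1 : ℕ) < m + 1 := by omega
        have h4 : ¬ (x.1 : ℕ) < m := by omega
        rw [if_neg h4, if_neg h3, flipB_neg (by omega)]
  exact (key n le_rfl).congr fun x => by rw [if_pos x.1.2]

theorem evenPar_B [Finite (CoxeterMatrix.B n).Group] : EvenPar (CoxeterMatrix.B n) := by
  obtain ⟨ω, hω⟩ := gen_ngB (n := n)
  refine evenPar_of_neg_sr (isCartan n) ((CoxeterMatrix.B n).toCoxeterSystem.wordProd ω) fun i => ?_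
  have key : ∀ (ω : List (Fin n)) (x : Fin n → ℤ) (a b : Fin n × Bool), ee x = wt a + wt b →
      ee (rep (CoxeterMatrix.B n).toCoxeterSystem (isCartan n) ((CoxeterMatrix.B n).toCoxeterSystem.wordProd ω) x) =
        wt (ω.foldr sg a) + wt (ω.foldr sg b) := by
    intro ω x a b hx
    induction ω with
    | nil => rw [wordProd_nil, map_one]; exact hx
    | cons j ω ih => rw [wordProd_cons, rep_mul_apply, rep_simple, ee_refl_of ih]; rfl
  apply ee_injective
  rw [key ω (sr i) (i, true) (nx i) (ee_sr i), hω, hω, wt_ng, wt_ng, ee_neg, ee_sr, bt]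
  abel

end TypeB

/-! ### Type `D_{n+2}`, `n` even -/

section TypeD

open Cfsg.Agent.Nodes.TypeC (ng wt wt_ng ng_fst)
open Cfsg.Agent.Nodes.TypeD

variable {n : ℕ}

/-- the sign changes of the indices `k` and `m` -/
def flipD (k m : ℕ) (x : Fin (n + 2) × Bool) : Fin (n + 2) × Bool := if (x.1 : ℕ) = k ∨ (x.1 : ℕ) = m then ng x else x

theorem flipD_pos {k m : ℕ} {x : Fin (n + 2) × Bool} (h : (x.1 : ℕ) = k ∨ (x.1 : ℕ) = m) : flipD k m x = ng x :=
  if_pos h

theorem flipD_neg {k m : ℕ} {x : Fin (n + 2) × Bool} (h : ¬ ((x.1 : ℕ) = k ∨ (x.1 : ℕ) = m)) : flipD k m x = x :=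
  if_neg h

/-- conjugation by a transposition -/
theorem conj_flip {i : Fin (n + 2)} (hi : (i : ℕ) + 1 < n + 2) {k m k' m' : ℕ} (hf : Gen (sg (n := n)) (flipD k m))
    (h1 : ∀ j : ℕ, (j = k' ∨ j = m') ↔ ((if j = i then (i : ℕ) + 1 else if j = i + 1 then (i : ℕ) else j) = k ∨
      (if j = i then (i : ℕ) + 1 else if j = i + 1 then (i : ℕ) else j) = m)) :
    Gen (sg (n := n)) (flipD k' m') := by
  have h2 := Gen.simple (g := sg (n := n)) i
  refine (h2.comp (hf.comp h2)).congr fun x => ?_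
  have h3 : ((sg i x).1 : ℕ) = (if (x.1 : ℕ) = i then (i : ℕ) + 1 else if (x.1 : ℕ) = i + 1 then (i : ℕ) else x.1) := by
    obtain ⟨a, s⟩ := x
    unfold sg
    rw [dif_pos hi]
    by_cases ha : a = i
    · rw [if_pos ha, if_pos (congrArg Fin.val ha)]
    · rw [if_neg ha, if_neg (fun e => ha (Fin.ext e))]
      by_cases hb : a = ⟨i + 1, hi⟩
      · rw [if_pos hb, if_pos (congrArg Fin.val hb)]
      · rw [if_neg hb, if_neg (fun e => hb (Fin.ext e))]
  by_cases h4 : (x.1 : ℕ) = k' ∨ (x.1 : ℕ) = m'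
  · rw [flipD_pos h4, flipD_pos (by rw [h3]; exact (h1 _).1 h4), sg_ng, sg_sg]
  · rw [flipD_neg h4, flipD_neg (by rw [h3]; exact fun h5 => h4 ((h1 _).2 h5)), sg_sg]

theorem gen_flipD (d : ℕ) : ∀ k : ℕ, k + d = n → Gen (sg (n := n)) (flipD k (k + 1)) := by
  induction d with
  | zero =>
    intro k hk
    refine ((Gen.simple (⟨k, by omega⟩ : Fin (n + 2))).comp (Gen.simple (⟨k + 1, by omega⟩ : Fin (n + 2)))).congr ?_
    rintro ⟨i, s⟩
    have hk1 : ((⟨k, by omega⟩ : Fin (n + 2)) : ℕ) + 1 < n + 2 := by simp only; omega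
    have hk2 : ¬ (((⟨k + 1, by omega⟩ : Fin (n + 2)) : ℕ) + 1 < n + 2) := by simp only; omega
    have hpd : pd n = (⟨k, by omega⟩ : Fin (n + 2)) := Fin.ext (by simp only [pd]; omega)
    by_cases h3 : (i : ℕ) = k + 1
    · have hi : i = (⟨k + 1, by omega⟩ : Fin (n + 2)) := Fin.ext h3
      rw [flipD_pos (Or.inr h3), hi, sg_last hk2, hpd, sg_up hk1]
      rfl
    · by_cases h2 : (i : ℕ) = k
      · have hi : i = (⟨k, by omega⟩ : Fin (n + 2)) := Fin.ext h2
        have h5 : sg (⟨k + 1, by omega⟩ : Fin (n + 2)) (i, s) = ((⟨k + 1, by omega⟩ : Fin (n + 2)), !s) := by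
          have h6 := sg_last hk2 (!s)
          rw [Bool.not_not, hpd, ← hi] at h6
          rw [← h6, sg_sg]
        rw [flipD_pos (Or.inl h2), h5]
        have h7 := sg_down hk1 (!s)
        rw [hi]
        exact h7
      · have hi := i.2
        have h4 : ((i, s).1 : ℕ) < n := by simp only; omega
        have h5 : ¬ (((i, s).1 : ℕ) = k ∨ ((i, s).1 : ℕ) = k + 1) := by simp only; omega
        rw [flipD_neg h5, sg_last_of_ne hk2 h4, sg_of_ne hk1 (fun e => h2 (congrArg Fin.val e)) h3]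
  | succ d ih =>
    intro k hk
    have h1 : Gen (sg (n := n)) (flipD k (k + 2)) :=
      conj_flip (i := ⟨k, by omega⟩) (by simp only; omega) (ih (k + 1) (by omega)) (by
        intro j
        simp only
        split_ifs <;> omega)
    exact conj_flip (i := ⟨k + 1, by omega⟩) (by simp only; omega) h1 (by
        intro j
        simp only
        split_ifs <;> omega)

theorem gen_ngD (hn : Even n) : Gen (sg (n := n)) ng := by
  have key : ∀ m : ℕ, 2 * m ≤ n + 2 → Gen (sg (n := n)) (fun x => if (x.1 : ℕ) < 2 * m then ng x else x) := by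
    intro m
    induction m with
    | zero => intro _; exact Gen.id.congr fun x => by simp
    | succ m ih =>
      intro hm
      refine ((gen_flipD (n - 2 * m) (2 * m) (by omega)).comp (ih (by omega))).congr ?_
      intro x
      by_cases h2 : (x.1 : ℕ) < 2 * m
      · have h3 : (x.1 : ℕ) < 2 * (m + 1) := by omega
        rw [if_pos h2, if_pos h3, flipD_neg (by rw [ng_fst]; omega)]
      · by_cases h3 : (x.1 : ℕ) < 2 * (m + 1)
        · rw [if_neg h2, if_pos h3, flipD_pos (by omega)]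
        · rw [if_neg h2, if_neg h3, flipD_neg (by omega)]
  obtain ⟨m, hm⟩ := hn
  exact (key (m + 1) (by omega)).congr fun x => by rw [if_pos (by have := x.1.2; omega)]

theorem evenPar_D (hn : Even n) [Finite (M n).Group] : EvenPar (M n) := by
  obtain ⟨ω, hω⟩ := gen_ngD (n := n) hn
  refine evenPar_of_neg_sr (isCartan n) ((M n).toCoxeterSystem.wordProd ω) fun i => ?_
  have key : ∀ (ω : List (Fin (n + 2))) (x : Fin (n + 2) → ℤ) (a b : Fin (n + 2) × Bool), ee x = wt a + wt b →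
      ee (rep (M n).toCoxeterSystem (isCartan n) ((M n).toCoxeterSystem.wordProd ω) x) =
        wt (ω.foldr sg a) + wt (ω.foldr sg b) := by
    intro ω x a b hx
    induction ω with
    | nil => rw [wordProd_nil, map_one]; exact hx
    | cons j ω ih => rw [wordProd_cons, rep_mul_apply, rep_simple, ee_refl_of ih]; rfl
  apply ee_injective
  rw [key ω (sr i) (i, true) (nx i) (ee_sr i), hω, hω, wt_ng, wt_ng, ee_neg, ee_sr, bt]
  abel

end TypeD

end Cfsg.Agent.H551.OddTwo
end

-- part: H551/OddTwoD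
section
/-!
# S4785, characteristic two: the Weyl groups of type `D` (helper551)

* `evenPar_TypeD` : `EvenPar (TypeD.M n)` for `n ≥ 1`: the sign changes form a `2`-group with no conjugate inside a proper
  parabolic subgroup.
-/

set_option autoImplicit false

namespace Cfsg.Agent.H551.OddTwo

open CoxeterSystem Cfsg.Agent.ChevalleyStructure.CoxeterGeom Cfsg.Agent.Tits.Roots Cfsg.Agent.Tits.Core
  Cfsg.Agent.Tits.RootComb
open Cfsg.Agent.Nodes.TypeC (ng wt wt_ng ng_fst wt_apply)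
open Cfsg.Agent.Nodes.TypeD

variable {n : ℕ}

/-- the passage to `ε`-coordinates as a linear map -/
def eeL (n : ℕ) : (Fin (n + 2) → ℤ) →ₗ[ℤ] (Fin (n + 2) → ℤ) where
  toFun := ee
  map_add' := ee_add
  map_smul' c x := ee_smul c x

/-- `w` acts by signs in the `ε`-coordinates -/
def Sgn (w : (M n).Group) (σ : Fin (n + 2) → ℤ) : Prop :=
  ∀ x j, ee (rep (M n).toCoxeterSystem (isCartan n) w x) j = σ j * ee x j

/-- the group of sign changes -/
def EE (n : ℕ) : Subgroup (M n).Group where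
  carrier := {w | ∃ σ : Fin (n + 2) → ℤ, (∀ j, σ j * σ j = 1) ∧ Sgn w σ}
  one_mem' := ⟨fun _ => 1, fun _ => rfl, fun x j => by rw [map_one, Module.End.one_apply, one_mul]⟩
  mul_mem' := by
    rintro a b ⟨σ, h1, h2⟩ ⟨τ, h3, h4⟩
    refine ⟨fun j => σ j * τ j, fun j => ?_, fun x j => ?_⟩
    · calc σ j * τ j * (σ j * τ j) = (σ j * σ j) * (τ j * τ j) := by ring
        _ = 1 := by rw [h1, h3, one_mul]
    · rw [rep_mul_apply, h2, h4, mul_assoc]
  inv_mem' := by
    rintro a ⟨σ, h1, h2⟩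
    refine ⟨σ, h1, fun x j => ?_⟩
    have h3 := h2 (rep (M n).toCoxeterSystem (isCartan n) a⁻¹ x) j
    rw [rep_apply_inv] at h3
    rw [h3, ← mul_assoc, h1, one_mul]

theorem sq_of_mem_EE {w : (M n).Group} (hw : w ∈ EE n) : w ^ 2 = 1 := by
  obtain ⟨σ, h1, h2⟩ := hw
  apply rep_injective (M n).toCoxeterSystem (isCartan n)
  rw [map_one]
  refine LinearMap.ext fun x => ee_injective ?_
  funext j
  rw [sq, rep_mul_apply, h2, h2, ← mul_assoc, h1, one_mul]
  rfl

theorem isPGroup_EE : IsPGroup 2 (EE n) := fun ⟨w, hw⟩ => ⟨1, Subtype.ext (by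
  change w ^ 2 ^ 1 = 1
  rw [pow_one]
  exact sq_of_mem_EE hw)⟩

/-- the sign change of the coordinates `k`, `k + 1` -/
theorem exists_flip (k : ℕ) (hk : k ≤ n) :
    ∃ w ∈ EE n, Sgn w (fun j => if (j : ℕ) = k ∨ (j : ℕ) = k + 1 then -1 else 1) := by
  obtain ⟨ω, hω⟩ := gen_flipD (n := n) (n - k) k (by omega)
  have key : ∀ (ω : List (Fin (n + 2))) (x : Fin (n + 2) → ℤ) (a b : Fin (n + 2) × Bool), ee x = wt a + wt b →
      ee (rep (M n).toCoxeterSystem (isCartan n) ((M n).toCoxeterSystem.wordProd ω) x) =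
        wt (ω.foldr sg a) + wt (ω.foldr sg b) := by
    intro ω x a b hx
    induction ω with
    | nil => rw [wordProd_nil, map_one]; exact hx
    | cons j ω ih => rw [wordProd_cons, rep_mul_apply, rep_simple, ee_refl_of ih]; rfl
  set σ : Fin (n + 2) → ℤ := fun j => if (j : ℕ) = k ∨ (j : ℕ) = k + 1 then -1 else 1 with hσ
  have hwt : ∀ (a : Fin (n + 2) × Bool) (j : Fin (n + 2)), wt (flipD k (k + 1) a) j = σ j * wt a j := by
    intro a j
    by_cases h : (a.1 : ℕ) = k ∨ (a.1 : ℕ) = k + 1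
    · rw [flipD_pos h, wt_ng, Pi.neg_apply, wt_apply]
      by_cases hj : j = a.1
      · rw [hσ]
        simp only
        rw [hj, if_pos h]
        ring
      · rw [if_neg hj]; ring
    · rw [flipD_neg h, wt_apply]
      by_cases hj : j = a.1
      · rw [hσ]
        simp only
        rw [hj, if_neg h]
        ring
      · rw [if_neg hj]; ring
  have hS : Sgn ((M n).toCoxeterSystem.wordProd ω) σ := by
    intro x j
    have hlin : ((LinearMap.proj j : (Fin (n + 2) → ℤ) →ₗ[ℤ] ℤ).comp (eeL n)).comp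
        (rep (M n).toCoxeterSystem (isCartan n) ((M n).toCoxeterSystem.wordProd ω)) =
        σ j • (LinearMap.proj j : (Fin (n + 2) → ℤ) →ₗ[ℤ] ℤ).comp (eeL n) := by
      refine LinearMap.pi_ext' fun i => LinearMap.ext_ring ?_
      have h1 := congrFun (key ω (sr i) (i, true) (nx i) (ee_sr i)) j
      rw [hω, hω, Pi.add_apply, hwt, hwt, ← mul_add, ← Pi.add_apply] at h1
      have h2 : ee (sr i) j = (wt (i, true) + wt (nx i)) j := congrFun (ee_sr i) j
      rw [← h2] at h1
      exact h1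
    exact LinearMap.congr_fun hlin x
  refine ⟨_, ⟨σ, fun j => ?_, hS⟩, hS⟩
  rw [hσ]
  simp only
  split_ifs <;> norm_num

/-- twice an `ε`-vector is a difference `x - w x`, `w` a sign change -/
theorem exists_two (hn : 1 ≤ n) (a : Fin (n + 2)) :
    ∃ w ∈ EE n, ∃ x, ee (x - rep (M n).toCoxeterSystem (isCartan n) w x) = 2 • wt (a, true) := by
  -- the flip `k, k + 1` moves `a` and fixes `c`
  obtain ⟨k, c, hk, hka, hc⟩ : ∃ (k : ℕ) (c : Fin (n + 2)), k ≤ n ∧ ((a : ℕ) = k ∨ (a : ℕ) = k + 1) ∧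
      ¬ ((c : ℕ) = k ∨ (c : ℕ) = k + 1) := by
    have ha := a.2
    by_cases h1 : (a : ℕ) = 0
    · exact ⟨0, ⟨2, by omega⟩, by omega, Or.inl h1, by simp only; omega⟩
    · by_cases h2 : (a : ℕ) = 1
      · exact ⟨0, ⟨2, by omega⟩, by omega, Or.inr (by omega), by simp only; omega⟩
      · exact ⟨a - 1, ⟨0, by omega⟩, by omega, Or.inr (by omega), by simp only; omega⟩
  obtain ⟨w, hw, hS⟩ := exists_flip k hk
  have hac : a ≠ c := by rintro rfl; exact hc hka
  obtain ⟨x, -, hx⟩ := rt_of_ok (cs := (M n).toCoxeterSystem) (a := (a, true)) (b := (c, true)) hac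
  refine ⟨w, hw, x, ?_⟩
  funext j
  have h1 : ee (x - rep (M n).toCoxeterSystem (isCartan n) w x) j =
      ee x j - ee (rep (M n).toCoxeterSystem (isCartan n) w x) j := by
    rw [sub_eq_add_neg, ee_add, ee_neg, Pi.add_apply, Pi.neg_apply, sub_eq_add_neg]
  rw [h1, hS, hx, Pi.add_apply, Pi.smul_apply, wt_apply, wt_apply]
  simp only
  by_cases hj : j = a
  · subst hj
    rw [if_pos rfl, if_neg hac, if_pos hka]
    norm_num
  · rw [if_neg hj]
    by_cases hj' : j = c
    · subst hj'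
      rw [if_pos rfl, if_neg hc]
      norm_num
    · rw [if_neg hj']
      norm_num

theorem evenPar_TypeD (hn : 1 ≤ n) [Finite (M n).Group] : EvenPar (M n) := by
  intro J hJ
  refine ⟨∅, ?_⟩
  rw [par_empty]
  by_contra hodd
  rw [Nat.not_even_iff_odd] at hodd
  obtain ⟨k, hk⟩ : ∃ k, k ∉ J := by
    by_contra hcon
    push Not at hcon
    exact hJ (Set.eq_univ_of_forall hcon)
  obtain ⟨g, hg⟩ := Cfsg.Agent.H453.OddM.Cov.two_group hodd (isPGroup_EE (n := n))
  set r := rep (M n).toCoxeterSystem (isCartan n) with hr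
  -- the functional
  let φ : (Fin (n + 2) → ℤ) →ₗ[ℤ] ℤ := (LinearMap.proj k : (Fin (n + 2) → ℤ) →ₗ[ℤ] ℤ).comp (r g)
  have hφ : ∀ w ∈ EE n, ∀ x, φ (r w x) = φ x := by
    intro w hw x
    change r g (r w x) k = r g x k
    have h1 := rep_apply_of_mem (M n).toCoxeterSystem (isCartan n) (hg w hw) (r g x) hk
    rw [← hr, rep_mul_apply, rep_mul_apply, ← hr, rep_inv_apply] at h1
    exact h1
  have h2 : ∀ a : Fin (n + 2), ∃ y, ee y = 2 • wt (a, true) ∧ φ y = 0 := by
    intro a
    obtain ⟨w, hw, x, hx⟩ := exists_two hn a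
    exact ⟨_, hx, by rw [map_sub, ← hr, hφ w hw, sub_self]⟩
  have h3 : ∀ a : Fin (n + 2) × Bool, ∃ y, ee y = 2 • wt a ∧ φ y = 0 := by
    rintro ⟨a, s⟩
    obtain ⟨y, hy, hy'⟩ := h2 a
    cases s
    · refine ⟨-y, ?_, by rw [map_neg, hy', neg_zero]⟩
      have h4 : wt (a, false) = -wt (a, true) := wt_ng (a, true)
      rw [ee_neg, hy, h4, smul_neg]
    · exact ⟨y, hy, hy'⟩
  have h4 : ∀ i, φ (sr i) = 0 := by
    intro i
    obtain ⟨y, hy, hy'⟩ := h3 (i, true)
    obtain ⟨z, hz, hz'⟩ := h3 (nx i)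
    have h5 : (2 : ℤ) • sr i = y + z := by
      apply ee_injective
      rw [ee_smul, ee_add, hy, hz, ee_sr, bt, smul_add]
      rfl
    have h6 : (2 : ℤ) • φ (sr i) = 0 := by rw [← map_smul, h5, map_add, hy', hz', add_zero]
    exact (smul_eq_zero.1 h6).resolve_left (by norm_num)
  have h5 : φ = 0 := LinearMap.pi_ext' fun i => LinearMap.ext_ring (h4 i)
  have h6 : φ (r g⁻¹ (sr k)) = 1 := by
    change r g (r g⁻¹ (sr k)) k = 1
    rw [hr, rep_apply_inv, sr_self]
  rw [h5] at h6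
  exact absurd h6 (by norm_num only [_root_.LinearMap.zero_apply, _root_.zero_ne_one, _root_.not_false_eq_true])

end Cfsg.Agent.H551.OddTwo
end

-- part: H976/OddM/ParA
section
/-!
# S4785, characteristic two: type `A_n` (helper976)

`evenPar_A`: for each proper parabolic subgroup `W_J` of `S_N`, `N = n + 1 ≥ 2`, there is a parabolic subgroup `W_K`
with an even number of double cosets `W_K \ W / W_J`.  `K = K_m = {i ≥ m}`: the number `N(m)` of double cosets is the
number of words of length `m` in the blocks `b` of `J` with at most `a_b` letters `b`.  `N(1) = k` is the number of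
blocks; if `k` is odd and `b` is the only smallest block, then `N(a_b + 1) = k ^ (a_b + 1) - 1` is even; if two blocks
have the same size, then `N(N)` is even.
-/

set_option autoImplicit false

namespace Cfsg.Agent.H976.OddM.ParA

open Cfsg.Agent.H551.OddTwo

section comb

variable {α β δ : Type*}

theorem ai (a : Equiv.Perm α) (x : α) : a (a⁻¹ x) = x := a.apply_symm_apply x

theorem ia (a : Equiv.Perm α) (x : α) : a⁻¹ (a x) = x := a.symm_apply_apply x

/-- extension of a partial bijection compatible with `π` -/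
theorem exists_ext (π : α → β) [Finite δ] (e e' : δ → α) (he : Function.Injective e)
    (he' : Function.Injective e') (h : ∀ i, π (e i) = π (e' i)) :
    ∃ y : Equiv.Perm α, (∀ x, π (y x) = π x) ∧ ∀ i, y (e i) = e' i := by
  classical
  have := Fintype.ofFinite δ
  suffices H : ∀ s : Finset δ, ∃ y : Equiv.Perm α, (∀ x, π (y x) = π x) ∧ ∀ i ∈ s, y (e i) = e' i by
    obtain ⟨y, h1, h2⟩ := H Finset.univ
    exact ⟨y, h1, fun i => h2 i (Finset.mem_univ i)⟩
  intro s
  induction s using Finset.induction_on with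
  | empty => exact ⟨1, fun _ => rfl, fun i hi => absurd hi (Finset.notMem_empty i)⟩
  | insert a s ha ih =>
    obtain ⟨y, h1, h2⟩ := ih
    refine ⟨Equiv.swap (y (e a)) (e' a) * y, fun x => ?_, fun i hi => ?_⟩
    · have h3 : ∀ z, π (Equiv.swap (y (e a)) (e' a) z) = π z := by
        intro z
        rw [Equiv.swap_apply_def]
        split_ifs with h4 h5
        · rw [h4, h1, h]
        · rw [h5, h1, h]
        · rfl
      rw [Equiv.Perm.mul_apply, h3, h1]
    · rw [Equiv.Perm.mul_apply]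
      rcases Finset.mem_insert.1 hi with rfl | hi
      · exact Equiv.swap_apply_left _ _
      · rw [h2 i hi, Equiv.swap_apply_of_ne_of_ne]
        · rw [← h2 i hi]
          intro e1
          have h3 := he (y.injective e1)
          rw [h3] at hi
          exact ha hi
        · intro e1
          exact ha (by rw [← he' e1]; exact hi)

/-- the Young subgroup of `π` -/
def Yg (π : α → β) : Subgroup (Equiv.Perm α) where
  carrier := {σ | ∀ x, π (σ x) = π x}
  mul_mem' {a b} ha hb x := by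
    change π (a (b x)) = π x
    rw [ha, hb]
  one_mem' _ := rfl
  inv_mem' {a} ha x := by
    have h1 : π (a (a⁻¹ x)) = π (a⁻¹ x) := ha _
    rw [ai] at h1
    exact h1.symm

/-- the pointwise stabiliser of the image of `e` -/
def Fx (e : δ → α) : Subgroup (Equiv.Perm α) where
  carrier := {σ | ∀ i, σ (e i) = e i}
  mul_mem' {a b} ha hb i := by
    change a (b (e i)) = e i
    rw [hb, ha]
  one_mem' _ := rfl
  inv_mem' {a} ha i := by
    change a⁻¹ (e i) = e i
    rw [Equiv.Perm.inv_eq_iff_eq]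
    exact (ha i).symm

/-- `w` is a word with at most `a_b` letters `b` -/
def Good (π : α → β) (w : δ → β) : Prop := ∃ e' : δ → α, Function.Injective e' ∧ ∀ i, π (e' i) = w i

theorem card_orb_young (π : α → β) [Finite δ] (e : δ → α) (he : Function.Injective e) :
    Nat.card (MulAction.orbitRel.Quotient (Fx e) (Equiv.Perm α ⧸ Yg π)) = Nat.card {w : δ → β // Good π w} := by
  refine card_eq_of_ker (orb (Fx e) (Yg π))
    (fun σ => (⟨fun i => π (σ⁻¹ (e i)), fun i => σ⁻¹ (e i), fun i j hij => he (σ⁻¹.injective hij), fun _ => rfl⟩ :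
      {w : δ → β // Good π w})) (orb_surjective _ _) ?_ ?_
  · rintro ⟨w, e', h1, h2⟩
    obtain ⟨y, -, h3⟩ := exists_ext (fun _ : α => ()) e' e h1 he (fun _ => rfl)
    refine ⟨y, Subtype.ext (funext fun i => ?_)⟩
    change π (y⁻¹ (e i)) = w i
    rw [← h2 i, ← h3 i, ia]
  · intro σ τ
    rw [orb_eq_iff]
    constructor
    · rintro ⟨k, hk, q, hq, rfl⟩
      refine Subtype.ext (funext fun i => ?_)
      change π ((k * τ * q)⁻¹ (e i)) = π (τ⁻¹ (e i))
      rw [mul_inv_rev, mul_inv_rev, Equiv.Perm.mul_apply, Equiv.Perm.mul_apply]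
      have h1 : k⁻¹ (e i) = e i := inv_mem hk i
      have h2 : π (q⁻¹ (τ⁻¹ (e i))) = π (τ⁻¹ (e i)) := inv_mem hq _
      rw [h1, h2]
    · intro h
      have h1 : ∀ i, π (σ⁻¹ (e i)) = π (τ⁻¹ (e i)) := fun i => congrFun (congrArg Subtype.val h) i
      obtain ⟨y, h2, h3⟩ := exists_ext π (fun i => σ⁻¹ (e i)) (fun i => τ⁻¹ (e i))
        (fun i j hij => he (σ⁻¹.injective hij)) (fun i j hij => he (τ⁻¹.injective hij)) h1
      refine ⟨σ * y⁻¹ * τ⁻¹, fun i => ?_, y, h2, by group⟩
      rw [Equiv.Perm.mul_apply, Equiv.Perm.mul_apply, ← h3 i, ia, ai]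

theorem good_iff [Finite α] [Finite δ] (π : α → β) (w : δ → β) :
    Good π w ↔ ∀ b, Nat.card {i // w i = b} ≤ Nat.card {x // π x = b} := by
  classical
  constructor
  · rintro ⟨e', h1, h2⟩ b
    exact Nat.card_le_card_of_injective (fun i : {i // w i = b} => (⟨e' i.1, by rw [h2, i.2]⟩ : {x // π x = b}))
      fun i j hij => Subtype.ext (h1 (congrArg Subtype.val hij))
  · intro h
    have h1 : ∀ b, ∃ f : {i // w i = b} → {x // π x = b}, Function.Injective f := by
      intro b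
      have := Fintype.ofFinite {i // w i = b}
      have := Fintype.ofFinite {x // π x = b}
      have h2 := h b
      rw [Nat.card_eq_fintype_card, Nat.card_eq_fintype_card] at h2
      obtain ⟨f⟩ := Function.Embedding.nonempty_of_card_le h2
      exact ⟨f, f.injective⟩
    choose f hf using h1
    refine ⟨fun i => (f (w i) ⟨i, rfl⟩).1, fun i j hij => ?_, fun i => (f (w i) ⟨i, rfl⟩).2⟩
    have hij' : (f (w i) ⟨i, rfl⟩).1 = (f (w j) ⟨j, rfl⟩).1 := hij
    have h3 : w i = w j := by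
      rw [← (f (w i) ⟨i, rfl⟩).2, hij', (f (w j) ⟨j, rfl⟩).2]
    have h4 : ∀ (b : β) (hb : w i = b) (hb' : w j = b), (f b ⟨i, hb⟩).1 = (f b ⟨j, hb'⟩).1 → i = j := by
      intro b hb hb' h5
      exact congrArg Subtype.val (hf b (Subtype.ext h5))
    refine h4 (w j) h3 rfl ?_
    rw [← hij']
    have h6 : ∀ (b : β) (hb : w i = b), (f b ⟨i, hb⟩).1 = (f (w i) ⟨i, rfl⟩).1 := by
      intro b hb
      subst hb
      rfl
    exact h6 _ _

/-- **The parity of the number of words.** -/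
theorem exists_even {N : ℕ} (π : Fin N → β) (hπ : Function.Surjective π) (hβ : 2 ≤ Nat.card β) :
    ∃ m ≤ N, Even (Nat.card {w : Fin m → β // Good π w}) := by
  classical
  have hfin : Finite β := Finite.of_surjective π hπ
  have := Fintype.ofFinite β
  by_contra hcon
  push Not at hcon
  have hodd : ∀ m ≤ N, Odd (Nat.card {w : Fin m → β // Good π w}) := fun m hm =>
    Nat.not_even_iff_odd.1 (hcon m hm)
  set a : β → ℕ := fun b => Nat.card {x // π x = b} with ha
  have ha1 : ∀ b, 1 ≤ a b := fun b => by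
    obtain ⟨x, hx⟩ := hπ b
    have : Nonempty {x // π x = b} := ⟨⟨x, hx⟩⟩
    exact Nat.card_pos
  have hne : Nonempty β := by
    rw [← Finite.card_pos_iff]; omega
  obtain ⟨b0, hb0⟩ := Finite.exists_min a
  -- two different blocks
  obtain ⟨b1, hb1⟩ : ∃ b1, b1 ≠ b0 := by
    by_contra h
    push Not at h
    have : Nat.card β ≤ 1 := by
      rw [Finite.card_le_one_iff_subsingleton]
      exact ⟨fun x y => by rw [h x, h y]⟩
    omega
  have hN : a b0 + a b1 ≤ N := by
    have h1 : Function.Injective (Sum.elim (fun x : {x // π x = b0} => x.1) (fun x : {x // π x = b1} => x.1)) := by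
      rintro (x | x) (y | y) hxy
      · exact congrArg Sum.inl (Subtype.ext hxy)
      · exfalso
        apply hb1
        rw [← y.2, ← x.2]
        exact congrArg π hxy.symm
      · exfalso
        apply hb1
        rw [← y.2, ← x.2]
        exact congrArg π hxy
      · exact congrArg Sum.inr (Subtype.ext hxy)
    have h2 := Nat.card_le_card_of_injective _ h1
    rwa [Nat.card_sum, Nat.card_fin] at h2
  have hk : Odd (Nat.card β) := by
    have h1 := hodd 1 (by have := ha1 b0; omega)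
    have h2 : Nat.card {w : Fin 1 → β // Good π w} = Nat.card β := by
      rw [Nat.card_congr (Equiv.subtypeUnivEquiv fun w => ?_), Nat.card_congr (Equiv.funUnique (Fin 1) β)]
      obtain ⟨x, hx⟩ := hπ (w 0)
      exact ⟨fun _ => x, fun i j _ => Subsingleton.elim i j, fun i => by rw [Subsingleton.elim i 0]; exact hx⟩
    rwa [h2] at h1
  by_cases hu : ∃ b, b ≠ b0 ∧ a b = a b0
  · -- two blocks of the same size
    obtain ⟨b, hb, hab⟩ := hu
    have h1 := hodd N le_rfl
    have hgood : ∀ w : Fin N → β, Good π w → Good π (fun i => Equiv.swap b b0 (w i)) := by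
      intro w hw
      rw [good_iff] at hw ⊢
      intro c
      have h2 : Nat.card {i // Equiv.swap b b0 (w i) = c} = Nat.card {i // w i = Equiv.swap b b0 c} :=
        Nat.card_congr (Equiv.subtypeEquivRight fun i => by
          rw [Equiv.swap_apply_eq_iff])
      rw [h2]
      refine (hw _).trans (le_of_eq ?_)
      change a (Equiv.swap b b0 c) = a c
      rcases eq_or_ne c b with rfl | h3
      · rw [Equiv.swap_apply_left, hab]
      rcases eq_or_ne c b0 with rfl | h4
      · rw [Equiv.swap_apply_right, hab]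
      · rw [Equiv.swap_apply_of_ne_of_ne h3 h4]
    let f : Function.End {w : Fin N → β // Good π w} :=
      fun w => ⟨fun i => Equiv.swap b b0 (w.1 i), hgood w.1 w.2⟩
    have hf : Function.Involutive f := fun w => Subtype.ext (funext fun i => by
      change Equiv.swap b b0 (Equiv.swap b b0 (w.1 i)) = w.1 i
      rw [Equiv.swap_apply_eq_iff])
    have hno : ∀ w, f w ≠ w := by
      rintro ⟨w, e', h2, h3⟩ h4
      obtain ⟨x, hx⟩ := hπ b0
      obtain ⟨i, hi⟩ := (Finite.injective_iff_surjective.1 h2) x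
      have h5 : Equiv.swap b b0 (w i) = w i := congrFun (congrArg Subtype.val h4) i
      rw [← h3 i, hi, hx, Equiv.swap_apply_right] at h5
      exact hb h5
    have h2 : f ^ 2 ^ 1 = 1 := by
      rw [pow_one, sq]
      exact funext hf
    have := Fintype.ofFinite {w : Fin N → β // Good π w}
    have : Fact (Nat.Prime 2) := ⟨Nat.prime_two⟩
    have h3 := Equiv.Perm.card_fixedPoints_modEq h2
    have h4 : Fintype.card (Function.fixedPoints f) = 0 := by
      rw [Fintype.card_eq_zero_iff]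
      exact ⟨fun w => hno w.1 w.2⟩
    rw [Nat.card_eq_fintype_card] at h1
    have h5 : Fintype.card {w : Fin N → β // Good π w} ≡ 0 [MOD 2] := h3.trans (by rw [← h4])
    have h6 : Fintype.card {w : Fin N → β // Good π w} % 2 = 0 := h5
    exact Nat.not_odd_iff_even.2 (Nat.even_iff.2 h6) h1
  · push Not at hu
    have hj : ∀ c, c ≠ b0 → a b0 + 1 ≤ a c := fun c hc => lt_of_le_of_ne (hb0 c) (fun h => hu c hc h.symm)
    have h1 := hodd (a b0 + 1) (by have := hj b1 hb1; have := ha1 b0; omega)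
    have h2 : ∀ w : Fin (a b0 + 1) → β, Good π w ↔ w ≠ fun _ => b0 := by
      intro w
      rw [good_iff]
      constructor
      · rintro h rfl
        have h3 := h b0
        rw [Nat.card_congr (Equiv.subtypeUnivEquiv fun _ => rfl), Nat.card_fin] at h3
        change a b0 + 1 ≤ a b0 at h3
        omega
      · intro hw c
        by_cases hc : c = b0
        · subst hc
          obtain ⟨i, hi⟩ : ∃ i, w i ≠ c := by
            by_contra h
            push Not at h
            exact hw (funext h)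
          have h3 : Nat.card {i // w i = c} < Nat.card (Fin (a c + 1)) := by
            refine Finite.card_subtype_lt (x := i) hi
          rw [Nat.card_fin] at h3
          change _ ≤ a c
          omega
        · refine le_trans ?_ (hj c hc)
          have h3 := Nat.card_le_card_of_injective (Subtype.val : {i // w i = c} → Fin (a b0 + 1))
            Subtype.val_injective
          rwa [Nat.card_fin] at h3
    rw [Nat.card_congr (Equiv.subtypeEquivRight h2), Nat.card_eq_fintype_card, Fintype.card_subtype_compl,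
      Fintype.card_subtype_eq, Fintype.card_fun, Fintype.card_fin, ← Nat.card_eq_fintype_card] at h1
    have h4 : Odd (Nat.card β ^ (a b0 + 1)) := hk.pow
    obtain ⟨r, hr⟩ := h1
    obtain ⟨s, hs⟩ := h4
    omega

end comb

section young

open Cfsg.Agent.Tits.Core Cfsg.Agent.S2530

variable {n : ℕ}

/-- the Young subgroup of a set of nodes -/
def YJ (J : Set (Fin n)) : Subgroup (Equiv.Perm (Fin (n + 1))) := Subgroup.closure (adj n '' J)

theorem isSwap_adj (J : Set (Fin n)) : ∀ f ∈ adj n '' J, f.IsSwap := by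
  rintro _ ⟨i, -, rfl⟩
  exact ⟨i.castSucc, i.succ, (Fin.castSucc_lt_succ).ne, rfl⟩

theorem mem_YJ (J : Set (Fin n)) (σ : Equiv.Perm (Fin (n + 1))) :
    σ ∈ YJ J ↔ ∀ x, σ x ∈ MulAction.orbit (YJ J) x := by
  unfold YJ
  rw [mem_closure_isSwap (isSwap_adj J)]
  exact and_iff_right (Set.toFinite _)

/-- the block of a point -/
def blk (J : Set (Fin n)) (x : Fin (n + 1)) : MulAction.orbitRel.Quotient (YJ J) (Fin (n + 1)) := Quotient.mk'' x

theorem blk_eq_iff (J : Set (Fin n)) (x y : Fin (n + 1)) : blk J x = blk J y ↔ x ∈ MulAction.orbit (YJ J) y := by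
  unfold blk
  rw [Quotient.eq'', MulAction.orbitRel_apply]

theorem YJ_eq (J : Set (Fin n)) : YJ J = Yg (blk J) := by
  ext σ
  rw [mem_YJ]
  exact forall_congr' fun x => (blk_eq_iff J _ _).symm

theorem blk_surjective (J : Set (Fin n)) : Function.Surjective (blk J) := Quotient.mk''_surjective

theorem two_le {J : Set (Fin n)} (hJ : J ≠ Set.univ) :
    2 ≤ Nat.card (MulAction.orbitRel.Quotient (YJ J) (Fin (n + 1))) := by
  obtain ⟨i, hi⟩ := (Set.ne_univ_iff_exists_notMem _).1 hJ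
  have h1 : YJ J ≤ Yg (fun x : Fin (n + 1) => decide (x.val ≤ i.val)) := by
    refine (Subgroup.closure_le _).2 ?_
    rintro _ ⟨j, hj, rfl⟩ x
    have hji : j.val ≠ i.val := fun e => hi (by rw [← Fin.ext e]; exact hj)
    change decide ((Equiv.swap j.castSucc j.succ x).val ≤ i.val) = decide (x.val ≤ i.val)
    rw [Equiv.swap_apply_def]
    split_ifs with h2 h3
    · rw [h2]
      simp only [Fin.val_succ, Fin.val_castSucc, decide_eq_decide]
      omega
    · rw [h3]
      simp only [Fin.val_succ, Fin.val_castSucc, decide_eq_decide]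
      omega
    · rfl
  have h2 : blk J i.castSucc ≠ blk J i.succ := by
    intro h3
    rw [blk_eq_iff] at h3
    obtain ⟨⟨σ, hσ⟩, h4⟩ := h3
    have h5 : decide ((σ i.succ).val ≤ i.val) = decide (i.succ.val ≤ i.val) := h1 hσ i.succ
    have h6 : σ i.succ = i.castSucc := h4
    rw [h6] at h5
    simp at h5
  have h3 : Function.Injective (fun b : Bool => if b then blk J i.castSucc else blk J i.succ) := by
    intro a b hab
    cases a <;> cases b
    · rfl
    · exact absurd hab.symm (by simpa using h2)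
    · exact absurd hab (by simpa using h2)
    · rfl
  have h4 := Nat.card_le_card_of_injective _ h3
  simpa only [_root_.ge_iff_le, _root_.Nat.card_eq_fintype_card, _root_.Fintype.card_bool] using h4

theorem YJ_tail {m : ℕ} (hm : m ≤ n + 1) : YJ {i : Fin n | m ≤ i.val} = Fx (Fin.castLE hm) := by
  apply le_antisymm
  · refine (Subgroup.closure_le _).2 ?_
    rintro _ ⟨j, hj, rfl⟩ x
    have hj' : m ≤ j.val := hj
    have hx := x.2
    refine Equiv.swap_apply_of_ne_of_ne (fun h => ?_) (fun h => ?_)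
    · have := congrArg Fin.val h
      simp at this
      omega
    · have := congrArg Fin.val h
      simp at this
      omega
  · -- all points `≥ m` are in one orbit
    have key : ∀ d : ℕ, ∀ x y : Fin (n + 1), m ≤ x.val → y.val = x.val + d →
        y ∈ MulAction.orbit (YJ {i : Fin n | m ≤ i.val}) x := by
      intro d
      induction d with
      | zero =>
        intro x y _ h
        have : y = x := Fin.ext (by omega)
        rw [this]
        exact MulAction.mem_orbit_self x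
      | succ d ih =>
        intro x y hx h
        have hy := y.2
        have h1 := ih x ⟨x.val + d, by omega⟩ hx rfl
        have h2 : Equiv.swap (⟨x.val + d, by omega⟩ : Fin (n + 1)) y ∈ YJ {i : Fin n | m ≤ i.val} := by
          refine Subgroup.subset_closure ⟨⟨x.val + d, by omega⟩, ?_, ?_⟩
          · change m ≤ x.val + d
            omega
          · unfold adj
            congr 1
            exact Fin.ext (by simp; omega)
        have h3 : y = (⟨_, h2⟩ : YJ {i : Fin n | m ≤ i.val}) • (⟨x.val + d, by omega⟩ : Fin (n + 1)) := by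
          change y = Equiv.swap _ _ _
          rw [Equiv.swap_apply_left]
        rw [h3]
        exact (MulAction.orbit_eq_iff.2 h1) ▸ MulAction.mem_orbit _ _
    intro σ hσ
    rw [mem_YJ]
    intro x
    by_cases hx : x.val < m
    · have h1 : σ x = x := hσ ⟨x.val, hx⟩
      rw [h1]
      exact MulAction.mem_orbit_self x
    · push Not at hx
      have h1 : m ≤ (σ x).val := by
        by_contra h2
        push Not at h2
        have h3 : σ (σ x) = σ x := hσ ⟨(σ x).val, h2⟩
        have h4 := σ.injective h3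
        rw [h4] at h2
        omega
      rcases le_total x.val (σ x).val with h2 | h2
      · exact key ((σ x).val - x.val) x (σ x) hx (by omega)
      · have h3 := key (x.val - (σ x).val) (σ x) x h1 (by omega)
        exact MulAction.mem_orbit_symm.1 h3

/-- **Type `A_n`.** -/
theorem evenPar_A (n : ℕ) : EvenPar (Cfsg.Agent.LieRecognition.BNCox.cA n) := by
  intro J hJ
  obtain ⟨m, hm, he⟩ := exists_even (blk J) (blk_surjective J) (two_le hJ)
  obtain ⟨cs, hcs⟩ := Cfsg.Agent.S2530.result n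
  rw [Cfsg.Agent.Nodes.RootsA.cA_eq]
  refine ⟨{i : Fin n | m ≤ i.val}, ?_⟩
  have hW : ∀ J : Set (Fin n), WJ cs J = YJ J := by
    intro J
    unfold WJ YJ
    rw [show cs.simple = adj n from funext hcs]
  rw [← par_eq cs, hW, hW, YJ_tail hm]
  have h1 := card_orb_young (blk J) (Fin.castLE hm) (Fin.castLE_injective hm)
  rw [← YJ_eq] at h1
  rw [h1]
  exact he

end young

end Cfsg.Agent.H976.OddM.ParA
end

-- part: H976/OddM/ParE6
section
/-!
# S4785, characteristic two: type `E₆` (helper976)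

`evenPar_E6`: for each proper parabolic subgroup `W_J` of `W(E₆)` there is a parabolic subgroup `W_K` with an even
number of double cosets `W_K \ W / W_J`.  `|W : W_J|` is even unless `W_J` is one of the two parabolic subgroups of
type `D₅`; these are the stabilisers of the first and the last point in the action on the `27` weights, and
`W(D₄)` has `6` orbits on the `27` weights.
-/

set_option autoImplicit false

namespace Cfsg.Agent.H976.OddM.ParE6

open CoxeterSystem Cfsg.Agent.ChevalleyStructure.CoxeterGeom Cfsg.Agent.Tits.Roots Cfsg.Agent.Tits.Core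
  Cfsg.Agent.Tits.Exchange Cfsg.Agent.ChevalleyStructure.WeylAbstract Cfsg.Agent.H35.Poin
  Cfsg.Agent.H934.RowOrb Cfsg.Agent.H551.OddTwo

/-! ### orders of parabolic subgroups -/

section order

variable {I W : Type*} [Fintype I] [DecidableEq I] [Group W] {M : CoxeterMatrix I}
  {cs : CoxeterSystem M W} {A : I → I → ℤ}

theorem card_WJ_eq (h : IsCartan M A) (J : Set I) : Nat.card (WJ cs J) = Nat.card ((rdata cs h).W J) := by
  rw [W_eq]
  exact Nat.card_congr ((WJ cs J).equivMapOfInjective _ (perm_injective cs h)).toEquiv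

/-- **One step of the parabolic chain** for the Weyl group. -/
theorem card_step [Finite W] (h : IsCartan M A) {JL : List I} {k : I} {L : List (List I)}
    (hO : OrbOK A JL k L) {JL' : List I} (hJ' : ∀ j, j ∈ JL' ↔ j ∈ JL ∧ j ≠ k) {N : ℕ}
    (hN : Nat.card (WJ cs {j | j ∈ JL'}) = N) :
    Nat.card (WJ cs {j | j ∈ JL}) = L.length * N := by
  classical
  have : Finite (Rt cs h) := finite_rt cs h
  have : Fintype (Rt cs h) := Fintype.ofFinite _
  have hset : ({j | j ∈ JL} \ {k} : Set I) = {j | j ∈ JL'} := by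
    ext j
    exact (hJ' j).symm
  have hQ : ∀ J : Set I, ∑ᶠ w ∈ ((rdata cs h).W J : Set (Equiv.Perm (Rt cs h))),
      (rdata cs h).Q (fun _ => (1 : ℕ)) w = Nat.card (WJ cs J) := by
    intro J
    rw [card_WJ_eq h J]
    have h1 : ∀ w, (rdata cs h).Q (fun _ => (1 : ℕ)) w = 1 := fun w => by
      unfold RData.Q
      exact Finset.prod_const_one
    simp only [h1]
    rw [finsum_one]
    rfl
  have h2 := RData.sum_step (rdata cs h) (fun _ => (1 : ℕ)) (fun _ _ => rfl) (fun _ => rfl)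
      (J := {j | j ∈ JL}) (k := k) (L.map (wtA A k)).toFinset ?_ ?_ ?_
  · rw [hset, hQ, hQ, hN] at h2
    rw [h2]
    congr 1
    have h1 : ∀ m, (rdata cs h).Qw (fun _ => (1 : ℕ)) m = 1 := fun m => by
      unfold RData.Qw
      exact Finset.prod_const_one
    simp only [h1]
    rw [Finset.sum_const, smul_eq_mul, mul_one, List.toFinset_card_of_nodup hO.nodup, List.length_map]
  · rw [List.mem_toFinset, List.mem_map]
    exact ⟨[], hO.nil, rfl⟩
  · intro m hm j hj
    rw [List.mem_toFinset, List.mem_map] at hm ⊢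
    obtain ⟨ω, hω, rfl⟩ := hm
    obtain ⟨ω', hω', h1⟩ := hO.closed ω hω j hj
    exact ⟨ω', hω', h1.symm⟩
  · intro m hm
    rw [List.mem_toFinset, List.mem_map] at hm
    obtain ⟨ω, hω, rfl⟩ := hm
    exact reach_wt (hO.mem ω hω)

omit [Fintype I] [DecidableEq I] in
theorem card_nil : Nat.card (WJ cs {j | j ∈ ([] : List I)}) = 1 := by
  have h1 : ({j | j ∈ ([] : List I)} : Set I) = ∅ := by
    ext j
    simp
  rw [h1]
  unfold WJ
  rw [Set.image_empty, Subgroup.closure_empty]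
  exact Subgroup.card_bot

end order

/-! ### `E₆` -/

def AM : List (List ℤ) := [[2, 0, -1, 0, 0, 0], [0, 2, 0, -1, 0, 0], [-1, 0, 2, -1, 0, 0], [0, -1, -1, 2, -1, 0],
  [0, 0, 0, -1, 2, -1], [0, 0, 0, 0, -1, 2]]

def AE (i j : Fin 6) : ℤ := (AM.getD i []).getD j 0

set_option backward.isDefEq.respectTransparency false in
theorem isCartan : IsCartan CoxeterMatrix.E₆ AE := by
  constructor <;> decide +kernel

def L6 : List (List (Fin 6)) := [[], [0], [2, 0], [3, 2, 0], [1, 3, 2, 0], [4, 3, 2, 0], [4, 1, 3, 2, 0], [5, 4, 3, 2, 0], [3, 4, 1, 3, 2, 0], [5, 4, 1, 3, 2, 0], [2, 3, 4, 1, 3, 2, 0], [5, 3, 4, 1, 3, 2, 0], [0, 2, 3, 4, 1, 3, 2, 0], [5, 2, 3, 4, 1, 3, 2, 0], [4, 5, 3, 4, 1, 3, 2, 0], [5, 0, 2, 3, 4, 1, 3, 2, 0], [4, 5, 2, 3, 4, 1, 3, 2, 0], [4, 5, 0, 2, 3, 4, 1, 3, 2, 0], [3, 4, 5, 2, 3, 4, 1, 3, 2, 0], [3, 4, 5, 0, 2, 3, 4, 1, 3, 2, 0], [1, 3, 4, 5, 2, 3, 4, 1, 3, 2, 0], [1, 3, 4, 5, 0, 2, 3, 4, 1, 3, 2, 0], [2, 3, 4, 5, 0, 2, 3, 4, 1, 3, 2, 0],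 [2, 1, 3, 4, 5, 0, 2, 3, 4, 1, 3, 2, 0], [3, 2, 1, 3, 4, 5, 0, 2, 3, 4, 1, 3, 2, 0], [4, 3, 2, 1, 3, 4, 5, 0, 2, 3, 4, 1, 3, 2, 0], [5, 4, 3, 2, 1, 3, 4, 5, 0, 2, 3, 4, 1, 3, 2, 0]]

private noncomputable def _root_.Cfsg.Agent.LsF.fafe149_3 : {f // @Cfsg.Agent.H976.OddM.ParE6.AE = f} := ⟨_, by first | (delta Cfsg.Agent.H976.OddM.ParE6.AE; rewrite [Cfsg.Agent.LsF.getD_eq]; exact rfl) | exact rfl⟩
theorem L6_ok : OrbOK AE [0, 1, 2, 3, 4, 5] 0 L6 := by constructor <;> (refine of_decide_eq_true ?_; (try delta Cfsg.Agent.H934.RowOrb.actA Cfsg.Agent.H934.RowOrb.wtA Cfsg.Agent.H934.RowOrb.wtA._f Function.update List.brecOn List.brecOn.go Pi.single); (try rewrite [Cfsg.Agent.LsF.dPiF_pat]); (try rewrite [Cfsg.Agent.LsF.dMemE_pat]); (try rewrite [Cfsg.Agent.LsF.fafe149_3.2]); (try rewrite [Cfsg.Agent.LsF.imul_pat]); (try rewrite [Cfsg.Agent.LsF.isub_pat]); (try rewrite [Cfsg.Agent.LsF.instIDecEq_eq]); (try rewrite [Cfsg.Agent.LsF.dFinEq_eq]); (try rewrite [Cfsg.Agent.LsF.dBAll_eq]);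 (try rewrite [Cfsg.Agent.LsF.dBEx_eq]); (try rewrite [Cfsg.Agent.LsF.dForallFin_eq]); (try rewrite [Cfsg.Agent.LsF.dAllP_eq]); (try rewrite [Cfsg.Agent.LsF.dite_eq]); (try rewrite [Cfsg.Agent.LsF.decide_eq]); decide +kernel)

def L5 : List (List (Fin 6)) := [[], [5], [4, 5], [3, 4, 5], [1, 3, 4, 5], [2, 3, 4, 5], [2, 1, 3, 4, 5], [3, 2, 1, 3, 4, 5], [4, 3, 2, 1, 3, 4, 5], [5, 4, 3, 2, 1, 3, 4, 5]]

theorem L5_ok : OrbOK AE [1, 2, 3, 4, 5] 5 L5 := by constructor <;> decide +kernel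

def L5x : List (List (Fin 6)) := [[], [0], [2, 0], [3, 2, 0], [1, 3, 2, 0], [4, 3, 2, 0], [4, 1, 3, 2, 0], [3, 4, 1, 3, 2, 0], [2, 3, 4, 1, 3, 2, 0], [0, 2, 3, 4, 1, 3, 2, 0]]

theorem L5x_ok : OrbOK AE [0, 1, 2, 3, 4] 0 L5x := by constructor <;> decide +kernel

def L4 : List (List (Fin 6)) := [[], [4], [3, 4], [1, 3, 4], [2, 3, 4], [2, 1, 3, 4], [3, 2, 1, 3, 4], [4, 3, 2, 1, 3, 4]]

theorem L4_ok : OrbOK AE [1, 2, 3, 4] 4 L4 := by constructor <;> decide +kernel

def a3 : List (List (Fin 6)) := [[], [1], [3, 1], [2, 3, 1]]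

theorem a3_ok : OrbOK AE [1, 2, 3] 1 a3 := by constructor <;> decide +kernel

def a2 : List (List (Fin 6)) := [[], [2], [3, 2]]

theorem a2_ok : OrbOK AE [2, 3] 2 a2 := by constructor <;> decide +kernel

def a1 : List (List (Fin 6)) := [[], [3]]

theorem a1_ok : OrbOK AE [3] 3 a1 := by constructor <;> decide +kernel

def b5 : List (List (Fin 6)) := [[], [5], [4, 5], [3, 4, 5], [2, 3, 4, 5], [0, 2, 3, 4, 5]]

theorem b5_ok : OrbOK AE [0, 2, 3, 4, 5] 5 b5 := by constructor <;> decide +kernel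

def b4 : List (List (Fin 6)) := [[], [4], [3, 4], [2, 3, 4], [0, 2, 3, 4]]

theorem b4_ok : OrbOK AE [0, 2, 3, 4] 4 b4 := by constructor <;> decide +kernel

def b3 : List (List (Fin 6)) := [[], [3], [2, 3], [0, 2, 3]]

theorem b3_ok : OrbOK AE [0, 2, 3] 3 b3 := by constructor <;> decide +kernel

def b2 : List (List (Fin 6)) := [[], [2], [0, 2]]

theorem b2_ok : OrbOK AE [0, 2] 2 b2 := by constructor <;> decide +kernel

def b1 : List (List (Fin 6)) := [[], [0]]

theorem b1_ok : OrbOK AE [0] 0 b1 := by constructor <;> decide +kernel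

def c5 : List (List (Fin 6)) := [[], [5], [4, 5], [3, 4, 5], [1, 3, 4, 5]]

theorem c5_ok : OrbOK AE [0, 1, 3, 4, 5] 5 c5 := by constructor <;> decide +kernel

def c4 : List (List (Fin 6)) := [[], [4], [3, 4], [1, 3, 4]]

theorem c4_ok : OrbOK AE [0, 1, 3, 4] 4 c4 := by constructor <;> decide +kernel

def c3 : List (List (Fin 6)) := [[], [3], [1, 3]]

theorem c3_ok : OrbOK AE [0, 1, 3] 3 c3 := by constructor <;> decide +kernel

def c2 : List (List (Fin 6)) := [[], [1]]

theorem c2_ok : OrbOK AE [0, 1] 1 c2 := by constructor <;> decide +kernel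

def d5 : List (List (Fin 6)) := [[], [5], [4, 5]]

theorem d5_ok : OrbOK AE [0, 1, 2, 4, 5] 5 d5 := by constructor <;> decide +kernel

def d4 : List (List (Fin 6)) := [[], [4]]

theorem d4_ok : OrbOK AE [0, 1, 2, 4] 4 d4 := by constructor <;> decide +kernel

def d3 : List (List (Fin 6)) := [[], [2], [0, 2]]

theorem d3_ok : OrbOK AE [0, 1, 2] 2 d3 := by constructor <;> decide +kernel

def e5 : List (List (Fin 6)) := [[], [5]]

theorem e5_ok : OrbOK AE [0, 1, 2, 3, 5] 5 e5 := by constructor <;> decide +kernel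

def e4 : List (List (Fin 6)) := [[], [0], [2, 0], [3, 2, 0], [1, 3, 2, 0]]

theorem e4_ok : OrbOK AE [0, 1, 2, 3] 0 e4 := by constructor <;> decide +kernel

def TT : List (List (Fin 27)) := [[1, 0, 2, 3, 4, 5, 6, 7, 8, 9, 12, 11, 10, 15, 14, 13, 17, 16, 19, 18, 21, 20, 22, 23, 24, 25, 26], [0, 1, 2, 4, 3, 6, 5, 9, 8, 7, 10, 11, 12, 13, 14, 15, 16, 17, 20, 21, 18, 19, 23, 22, 24, 25, 26], [0, 2, 1, 3, 4, 5, 6, 7, 10, 9, 8, 13, 12, 11, 16, 15, 14, 17, 18, 22, 20, 23, 19, 21, 24, 25, 26], [0, 1, 3, 2, 4, 5, 8, 7, 6, 11, 10, 9, 12, 13, 14, 15, 18, 19, 16, 17, 20, 21, 22, 24, 23, 25, 26], [0, 1, 2, 5, 6, 3, 4, 7, 8, 9, 10, 14, 12, 16, 11, 17, 13, 15, 18, 19, 20, 21, 22, 23, 25, 24, 26], [0, 1, 2, 3, 4, 7, 9, 5, 11, 6, 13, 8, 15, 10, 14, 12, 16, 17, 18, 19, 20, 21, 22, 23, 24, 26, 25]]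

def lab : List (Fin 6) := [0, 1, 1, 1, 1, 1, 1, 2, 1, 2, 1, 2, 3, 2, 2, 4, 2, 4, 2, 4, 2, 4, 4, 4, 4, 4, 5]

def reps : List (Fin 27) := [0, 1, 7, 12, 15, 26]

def wd : List (List (Fin 6)) := [[], [], [2], [3, 2], [1, 3, 2], [4, 3, 2], [1, 4, 3, 2], [], [3, 1, 4, 3, 2], [1], [2, 3, 1, 4, 3, 2], [3, 1], [], [2, 3, 1], [4, 3, 1], [], [2, 4, 3, 1], [4], [3, 2, 4, 3, 1], [3, 4], [1, 3, 2, 4, 3, 1], [1, 3, 4], [2, 3, 4], [1, 2, 3, 4], [3, 1, 2, 3, 4], [4, 3, 1, 2, 3, 4], []]

def tr : List (List (Fin 6)) := [[], [0], [2, 0], [3, 2, 0], [1, 3, 2, 0], [4, 3, 2, 0], [4, 1, 3, 2, 0], [5, 4, 3, 2, 0], [3, 4, 1, 3, 2, 0], [5, 4, 1, 3, 2, 0], [2, 3, 4, 1, 3, 2, 0], [5, 3, 4, 1, 3, 2, 0], [0, 2, 3, 4, 1, 3, 2, 0], [5, 2, 3, 4, 1, 3, 2, 0], [4, 5, 3, 4, 1, 3, 2, 0], [5, 0, 2, 3, 4, 1, 3, 2, 0], [4, 5, 2, 3, 4, 1, 3, 2, 0], [4, 5, 0, 2, 3, 4, 1, 3, 2, 0], [3, 4, 5, 2, 3, 4, 1, 3, 2, 0], [3, 4, 5, 0, 2, 3, 4, 1, 3, 2, 0], [1, 3, 4, 5, 2, 3, 4, 1, 3, 2, 0], [1, 3, 4,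 5, 0, 2, 3, 4, 1, 3, 2, 0], [2, 3, 4, 5, 0, 2, 3, 4, 1, 3, 2, 0], [2, 1, 3, 4, 5, 0, 2, 3, 4, 1, 3, 2, 0], [3, 2, 1, 3, 4, 5, 0, 2, 3, 4, 1, 3, 2, 0], [4, 3, 2, 1, 3, 4, 5, 0, 2, 3, 4, 1, 3, 2, 0], [5, 4, 3, 2, 1, 3, 4, 5, 0, 2, 3, 4, 1, 3, 2, 0]]


/-! ### the orders -/

section orders

variable {W : Type*} [Group W] [Finite W] (cs : CoxeterSystem CoxeterMatrix.E₆ W)

theorem card_a1 : Nat.card (WJ cs {j | j ∈ ([3] : List (Fin 6))}) = 2 :=
  card_step isCartan a1_ok (JL' := []) (by decide) card_nil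

theorem card_a2 : Nat.card (WJ cs {j | j ∈ ([2, 3] : List (Fin 6))}) = 6 :=
  card_step isCartan a2_ok (JL' := [3]) (by decide) (card_a1 cs)

theorem card_a3 : Nat.card (WJ cs {j | j ∈ ([1, 2, 3] : List (Fin 6))}) = 24 :=
  card_step isCartan a3_ok (JL' := [2, 3]) (by decide) (card_a2 cs)

theorem card_4 : Nat.card (WJ cs {j | j ∈ ([1, 2, 3, 4] : List (Fin 6))}) = 192 :=
  card_step isCartan L4_ok (JL' := [1, 2, 3]) (by decide) (card_a3 cs)

theorem card_5 : Nat.card (WJ cs {j | j ∈ ([1, 2, 3, 4, 5] : List (Fin 6))}) = 1920 :=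
  card_step isCartan L5_ok (JL' := [1, 2, 3, 4]) (by decide) (card_4 cs)

theorem card_5x : Nat.card (WJ cs {j | j ∈ ([0, 1, 2, 3, 4] : List (Fin 6))}) = 1920 :=
  card_step isCartan L5x_ok (JL' := [1, 2, 3, 4]) (by decide) (card_4 cs)

theorem card_6 : Nat.card (WJ cs {j | j ∈ ([0, 1, 2, 3, 4, 5] : List (Fin 6))}) = 51840 :=
  card_step isCartan L6_ok (JL' := [1, 2, 3, 4, 5]) (by decide) (card_5 cs)

theorem card_b1 : Nat.card (WJ cs {j | j ∈ ([0] : List (Fin 6))}) = 2 :=
  card_step isCartan b1_ok (JL' := []) (by decide) card_nil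

theorem card_b2 : Nat.card (WJ cs {j | j ∈ ([0, 2] : List (Fin 6))}) = 6 :=
  card_step isCartan b2_ok (JL' := [0]) (by decide) (card_b1 cs)

theorem card_b3 : Nat.card (WJ cs {j | j ∈ ([0, 2, 3] : List (Fin 6))}) = 24 :=
  card_step isCartan b3_ok (JL' := [0, 2]) (by decide) (card_b2 cs)

theorem card_b4 : Nat.card (WJ cs {j | j ∈ ([0, 2, 3, 4] : List (Fin 6))}) = 120 :=
  card_step isCartan b4_ok (JL' := [0, 2, 3]) (by decide) (card_b3 cs)

theorem card_b5 : Nat.card (WJ cs {j | j ∈ ([0, 2, 3, 4, 5] : List (Fin 6))}) = 720 :=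
  card_step isCartan b5_ok (JL' := [0, 2, 3, 4]) (by decide) (card_b4 cs)

theorem card_c2 : Nat.card (WJ cs {j | j ∈ ([0, 1] : List (Fin 6))}) = 4 :=
  card_step isCartan c2_ok (JL' := [0]) (by decide) (card_b1 cs)

theorem card_c3 : Nat.card (WJ cs {j | j ∈ ([0, 1, 3] : List (Fin 6))}) = 12 :=
  card_step isCartan c3_ok (JL' := [0, 1]) (by decide) (card_c2 cs)

theorem card_c4 : Nat.card (WJ cs {j | j ∈ ([0, 1, 3, 4] : List (Fin 6))}) = 48 :=
  card_step isCartan c4_ok (JL' := [0, 1, 3]) (by decide) (card_c3 cs)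

theorem card_c5 : Nat.card (WJ cs {j | j ∈ ([0, 1, 3, 4, 5] : List (Fin 6))}) = 240 :=
  card_step isCartan c5_ok (JL' := [0, 1, 3, 4]) (by decide) (card_c4 cs)

theorem card_d3 : Nat.card (WJ cs {j | j ∈ ([0, 1, 2] : List (Fin 6))}) = 12 :=
  card_step isCartan d3_ok (JL' := [0, 1]) (by decide) (card_c2 cs)

theorem card_d4 : Nat.card (WJ cs {j | j ∈ ([0, 1, 2, 4] : List (Fin 6))}) = 24 :=
  card_step isCartan d4_ok (JL' := [0, 1, 2]) (by decide) (card_d3 cs)

theorem card_d5 : Nat.card (WJ cs {j | j ∈ ([0, 1, 2, 4, 5] : List (Fin 6))}) = 72 :=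
  card_step isCartan d5_ok (JL' := [0, 1, 2, 4]) (by decide) (card_d4 cs)

theorem card_e4 : Nat.card (WJ cs {j | j ∈ ([0, 1, 2, 3] : List (Fin 6))}) = 120 :=
  card_step isCartan e4_ok (JL' := [1, 2, 3]) (by decide) (card_a3 cs)

theorem card_e5 : Nat.card (WJ cs {j | j ∈ ([0, 1, 2, 3, 5] : List (Fin 6))}) = 240 :=
  card_step isCartan e5_ok (JL' := [0, 1, 2, 3]) (by decide) (card_e4 cs)

end orders

/-! ### the `27` weights -/

def tb (j : Fin 6) (x : Fin 27) : Fin 27 := (TT.getD j.val []).getD x.val 0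

theorem tb_tb : ∀ (j : Fin 6) (x : Fin 27), tb j (tb j x) = x := by decide +kernel

def tp (j : Fin 6) : Equiv.Perm (Fin 27) := ⟨tb j, tb j, tb_tb j, tb_tb j⟩

private noncomputable def _root_.Cfsg.Agent.LsF.fafe149_4 : {f // @Cfsg.Agent.H976.OddM.ParE6.tb = f} := ⟨_, by first | (delta Cfsg.Agent.H976.OddM.ParE6.tb; rewrite [Cfsg.Agent.LsF.getD_eq]; exact rfl) | exact rfl⟩
set_option backward.isDefEq.respectTransparency false in
theorem liftable_aux : ∀ (i j : Fin 6) (x : Fin 27), (fun y => tb i (tb j y))^[CoxeterMatrix.E₆.M i j] x = x := by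
  (refine of_decide_eq_true ?_; (try (rewrite [Cfsg.Agent.LsF.fafe149_4.2, Cfsg.Agent.LsF.iterate_eq, Cfsg.Agent.LsF.dFinEq_eq, Cfsg.Agent.LsF.dForallFin_eq, Cfsg.Agent.LsF.decide_eq])); decide +kernel)

theorem liftable : CoxeterMatrix.E₆.IsLiftable tp := by
  intro i j
  ext x
  have h1 : ∀ (n : ℕ) (x : Fin 27), ((tp i * tp j) ^ n) x = (fun y => tb i (tb j y))^[n] x := by
    intro n
    induction n with
    | zero => intro x; rfl
    | succ n ih =>
      intro x
      rw [pow_succ, Equiv.Perm.mul_apply, ih, Function.iterate_succ_apply]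
      rfl
  rw [h1]
  exact congrArg Fin.val (liftable_aux i j x)

section act

variable {W : Type*} [Group W] (cs : CoxeterSystem CoxeterMatrix.E₆ W)

/-- the action on the weights -/
noncomputable def phi : W →* Equiv.Perm (Fin 27) := cs.lift ⟨tp, liftable⟩

theorem phi_simple (i : Fin 6) (x : Fin 27) : phi cs (cs.simple i) x = tb i x := by
  unfold phi
  rw [cs.lift_apply_simple liftable i]
  rfl

theorem exists_word {K : Set (Fin 6)} : ∀ ω : List (Fin 6), (∀ j ∈ ω, j ∈ K) →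
    ∃ w ∈ WJ cs K, ∀ x, phi cs w x = ω.foldr tb x
  | [], _ => ⟨1, one_mem _, fun x => by rw [map_one]; rfl⟩
  | j :: ω, h => by
    obtain ⟨w, hw, h1⟩ := exists_word ω fun i hi => h i (List.mem_cons_of_mem _ hi)
    refine ⟨cs.simple j * w, mul_mem (Subgroup.subset_closure ⟨j, h j List.mem_cons_self, rfl⟩) hw, fun x => ?_⟩
    rw [map_mul, Equiv.Perm.mul_apply, h1, phi_simple, List.foldr_cons]

theorem inv_eq {K : Set (Fin 6)} {α : Type*} (f : Fin 27 → α) (hf : ∀ j ∈ K, ∀ x, f (tb j x) = f x) {w : W}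
    (hw : w ∈ WJ cs K) : ∀ x, f (phi cs w x) = f x := by
  unfold WJ at hw
  induction hw using Subgroup.closure_induction with
  | mem y hy =>
    obtain ⟨j, hj, rfl⟩ := hy
    intro x
    rw [phi_simple]
    exact hf j hj x
  | one => intro x; rw [map_one]; rfl
  | mul a b _ _ ha hb =>
    intro x
    rw [map_mul, Equiv.Perm.mul_apply, ha, hb]
  | inv a _ ha =>
    intro x
    rw [← ha, ← Equiv.Perm.mul_apply, ← map_mul, mul_inv_cancel, map_one]
    rfl

def lb (x : Fin 27) : Fin 6 := lab.getD x.val 0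

def wdf (x : Fin 27) : List (Fin 6) := wd.getD x.val []

def trf (x : Fin 27) : List (Fin 6) := tr.getD x.val []

def rp (c : Fin 6) : Fin 27 := reps.getD c.val 0

theorem lb_tb : ∀ j ∈ ([1, 2, 3, 4] : List (Fin 6)), ∀ x, lb (tb j x) = lb x := by decide +kernel

theorem wdf_mem : ∀ x, ∀ j ∈ wdf x, j ∈ ([1, 2, 3, 4] : List (Fin 6)) := by decide +kernel

theorem wdf_eq : ∀ x, (wdf x).foldr tb (rp (lb x)) = x := by decide +kernel

theorem trf_eq : ∀ x, (trf x).foldr tb 0 = x := by decide +kernel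

theorem lb_rp : ∀ c, lb (rp c) = c := by decide +kernel

theorem trans (p x : Fin 27) : ∃ w : W, phi cs w p = x := by
  obtain ⟨w1, -, h1⟩ := exists_word (K := Set.univ) cs (trf p) fun _ _ => trivial
  obtain ⟨w2, -, h2⟩ := exists_word (K := Set.univ) cs (trf x) fun _ _ => trivial
  refine ⟨w2 * w1⁻¹, ?_⟩
  have h3 : phi cs w1 0 = p := by rw [h1, trf_eq]
  have h4 : phi cs w1⁻¹ p = 0 := by
    rw [← h3, ← Equiv.Perm.mul_apply, ← map_mul, inv_mul_cancel, map_one]
    rfl
  rw [map_mul, Equiv.Perm.mul_apply, h4, h2, trf_eq]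

theorem WJ_univ : WJ cs {j | j ∈ ([0, 1, 2, 3, 4, 5] : List (Fin 6))} = ⊤ := by
  have h1 : ({j | j ∈ ([0, 1, 2, 3, 4, 5] : List (Fin 6))} : Set (Fin 6)) = Set.univ := by
    rw [Set.eq_univ_iff_forall]
    intro j
    revert j
    change ∀ j : Fin 6, j ∈ ([0, 1, 2, 3, 4, 5] : List (Fin 6))
    decide
  rw [h1]
  unfold WJ
  rw [Set.image_univ]
  exact cs.subgroup_closure_range_simple

include cs in
theorem card_W [Finite W] : Nat.card W = 51840 := by
  rw [← card_6 cs, WJ_univ, Subgroup.card_top]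

/-- `W_J` is the stabiliser of a point -/
theorem WJ_eq_stab [Finite W] {p : Fin 27} {J : Set (Fin 6)} (hJ : ∀ j ∈ J, tb j p = p)
    (hcard : Nat.card (WJ cs J) = 1920) :
    WJ cs J = (MulAction.stabilizer (Equiv.Perm (Fin 27)) p).comap (phi cs) := by
  set St := (MulAction.stabilizer (Equiv.Perm (Fin 27)) p).comap (phi cs) with hSt
  have hmem : ∀ w, w ∈ St ↔ phi cs w p = p := fun w => Iff.rfl
  have hle : WJ cs J ≤ St := by
    refine (Subgroup.closure_le _).2 ?_
    rintro _ ⟨j, hj, rfl⟩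
    change phi cs (cs.simple j) p = p
    rw [phi_simple]
    exact hJ j hj
  have h1 : Nat.card (W ⧸ St) = Nat.card (Fin 27) := by
    refine card_eq_of_ker (QuotientGroup.mk : W → W ⧸ St) (fun w => phi cs w p) QuotientGroup.mk_surjective
      (trans cs p) fun x y => ?_
    rw [QuotientGroup.eq, hmem, map_mul, Equiv.Perm.mul_apply, map_inv, Equiv.Perm.inv_eq_iff_eq]
    exact eq_comm
  have h2 := St.card_mul_index
  have h3 : St.index = 27 := by rw [← Nat.card_fin 27]; exact h1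
  rw [h3, card_W cs] at h2
  refine Subgroup.eq_of_le_of_card_ge hle ?_
  rw [hcard]
  omega

theorem card_orbits [Finite W] {p : Fin 27} {J : Set (Fin 6)} (hJ : ∀ j ∈ J, tb j p = p)
    (hcard : Nat.card (WJ cs J) = 1920) :
    Nat.card (MulAction.orbitRel.Quotient (WJ cs {j | j ∈ ([1, 2, 3, 4] : List (Fin 6))}) (W ⧸ WJ cs J)) = 6 := by
  rw [WJ_eq_stab cs hJ hcard]
  have h6 : Nat.card (Fin 6) = 6 := Nat.card_fin 6
  conv_rhs => rw [← h6]
  refine card_eq_of_ker (orb _ _) (fun w => lb (phi cs w p)) (orb_surjective _ _) ?_ ?_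
  · intro c
    obtain ⟨w, hw⟩ := trans cs p (rp c)
    refine ⟨w, ?_⟩
    change lb (phi cs w p) = c
    rw [hw, lb_rp]
  · intro x y
    rw [orb_eq_iff]
    constructor
    · rintro ⟨k, hk, q, hq, rfl⟩
      have h1 : phi cs q p = p := hq
      rw [map_mul, map_mul, Equiv.Perm.mul_apply, Equiv.Perm.mul_apply, h1]
      exact inv_eq cs lb lb_tb hk _
    · intro h
      have h' : lb (phi cs x p) = lb (phi cs y p) := h
      obtain ⟨w1, hw1, h1⟩ := exists_word cs (K := {j | j ∈ ([1, 2, 3, 4] : List (Fin 6))}) (wdf (phi cs x p))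
        (wdf_mem _)
      obtain ⟨w2, hw2, h2⟩ := exists_word cs (K := {j | j ∈ ([1, 2, 3, 4] : List (Fin 6))}) (wdf (phi cs y p))
        (wdf_mem _)
      have h3 : phi cs w1 (rp (lb (phi cs x p))) = phi cs x p := by rw [h1, wdf_eq]
      have h4 : phi cs w2 (rp (lb (phi cs y p))) = phi cs y p := by rw [h2, wdf_eq]
      refine ⟨w1 * w2⁻¹, mul_mem hw1 (inv_mem hw2), y⁻¹ * (w2 * w1⁻¹) * x, ?_, by group⟩
      change phi cs (y⁻¹ * (w2 * w1⁻¹) * x) p = p
      have h5 : phi cs w1⁻¹ (phi cs x p) = rp (lb (phi cs x p)) := by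
        conv_lhs => rw [← h3]
        rw [← Equiv.Perm.mul_apply, ← map_mul, inv_mul_cancel, map_one]
        rfl
      rw [map_mul, map_mul, map_mul, Equiv.Perm.mul_apply, Equiv.Perm.mul_apply, Equiv.Perm.mul_apply, h5, h', h4,
        ← Equiv.Perm.mul_apply, ← map_mul, inv_mul_cancel, map_one]
      rfl

theorem even_of_le [Finite W] {J J' : Set (Fin 6)} (hJ : J ⊆ J') {m : ℕ} (hm : Nat.card (WJ cs J') = m)
    (h : ¬ 128 ∣ m) : Even (WJ cs J).index := by
  by_contra hc
  rw [Nat.not_even_iff_odd] at hc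
  have h1 := (WJ cs J).card_mul_index
  rw [card_W cs] at h1
  have h2 : Nat.card (WJ cs J) ∣ m := by
    rw [← hm]
    exact Subgroup.card_dvd_of_le (Subgroup.closure_mono (Set.image_mono hJ))
  have h3 : 128 ∣ Nat.card (WJ cs J) := by
    have h4 : (128 : ℕ) ∣ Nat.card (WJ cs J) * (WJ cs J).index := by rw [h1]; decide
    refine Nat.Coprime.dvd_of_dvd_mul_right ?_ h4
    rw [show (128 : ℕ) = 2 ^ 7 from rfl]
    exact Nat.Coprime.pow_left 7 (Nat.coprime_two_left.2 hc)
  exact h (h3.trans h2)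

end act

/-- **Type `E₆`.** -/
theorem evenPar_E6 (hfin : Finite CoxeterMatrix.E₆.Group) : EvenPar CoxeterMatrix.E₆ := by
  intro J hJ
  set cs := CoxeterMatrix.E₆.toCoxeterSystem with hcs
  have hempty : ∀ {L : List (Fin 6)} {m : ℕ}, Nat.card (WJ cs {j | j ∈ L}) = m → ¬ 128 ∣ m → J ⊆ {j | j ∈ L} →
      ∃ K : Set (Fin 6), Even (Par CoxeterMatrix.E₆ J K) := fun h1 h2 h3 =>
    ⟨∅, by rw [par_empty]; exact even_of_le cs h3 h1 h2⟩
  have hsub : ∀ (L : List (Fin 6)) (i : Fin 6), i ∉ J → (∀ j, j ∉ L → j = i) → J ⊆ {j | j ∈ L} := by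
    intro L i hi hL j hj
    by_contra h
    rw [hL j h] at hj
    exact hi hj
  by_cases h1 : (1 : Fin 6) ∈ J
  swap
  · exact hempty (card_b5 cs) (by decide) (hsub _ 1 h1 (by decide))
  by_cases h2 : (2 : Fin 6) ∈ J
  swap
  · exact hempty (card_c5 cs) (by decide) (hsub _ 2 h2 (by decide))
  by_cases h3 : (3 : Fin 6) ∈ J
  swap
  · exact hempty (card_d5 cs) (by decide) (hsub _ 3 h3 (by decide))
  by_cases h4 : (4 : Fin 6) ∈ J
  swap
  · exact hempty (card_e5 cs) (by decide) (hsub _ 4 h4 (by decide))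
  by_cases h0 : (0 : Fin 6) ∈ J
  · by_cases h5 : (5 : Fin 6) ∈ J
    · exfalso
      apply hJ
      rw [Set.eq_univ_iff_forall]
      intro j
      fin_cases j <;> assumption
    · have hJ' : J = {j | j ∈ ([0, 1, 2, 3, 4] : List (Fin 6))} := by
        refine Set.Subset.antisymm (hsub _ 5 h5 (by decide)) fun j hj => ?_
        fin_cases j <;> first | assumption | exact absurd hj (by decide)
      refine ⟨{j | j ∈ ([1, 2, 3, 4] : List (Fin 6))}, ?_⟩
      have h6 := card_orbits cs (p := 26) (J := {j | j ∈ ([0, 1, 2, 3, 4] : List (Fin 6))})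
        (show ∀ j ∈ ([0, 1, 2, 3, 4] : List (Fin 6)), tb j 26 = 26 by decide +kernel) (card_5x cs)
      rw [par_eq] at h6
      rw [hJ', h6]
      decide
  · by_cases h5 : (5 : Fin 6) ∈ J
    · have hJ' : J = {j | j ∈ ([1, 2, 3, 4, 5] : List (Fin 6))} := by
        refine Set.Subset.antisymm (hsub _ 0 h0 (by decide)) fun j hj => ?_
        fin_cases j <;> first | assumption | exact absurd hj (by decide)
      refine ⟨{j | j ∈ ([1, 2, 3, 4] : List (Fin 6))}, ?_⟩
      have h6 := card_orbits cs (p := 0) (J := {j | j ∈ ([1, 2, 3, 4, 5] : List (Fin 6))})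
        (show ∀ j ∈ ([1, 2, 3, 4, 5] : List (Fin 6)), tb j 0 = 0 by decide +kernel) (card_5 cs)
      rw [par_eq] at h6
      rw [hJ', h6]
      decide
    · refine hempty (card_4 cs) (by decide) ?_
      intro j hj
      fin_cases j
      · exact absurd hj h0
      · decide
      · decide
      · decide
      · decide
      · exact absurd hj h5

end Cfsg.Agent.H976.OddM.ParE6
end

private theorem dce_7300c6dbb852 : _root_.True := by
  try have : _root_.True := by simp only [_root_.Cfsg.Agent.H551.OddTwo.cartanOf.eq_1]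
  exact _root_.True.intro
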